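import Mathlib.RingTheory.RegularLocalRing.Defs
import Mathlib.RingTheory.KrullDimension.NonZeroDivisors
import Mathlib.RingTheory.Nakayama

/-!
# Regular local rings: basic structure theory (helper85)

* `isDomain_of_isRegularLocalRing` : a regular local ring is a domain.
* `isRegularLocalRing_quotient_span_singleton` : `R ⧸ (x)` is regular for `x ∈ m \ m²`.
* `inf_sq_eq_mul_of_quotient_regular` : if `R` and `R ⧸ n` are regular local then `n ⊓ m² = m * n`.
-/

set_option autoImplicit false
universe u

namespace Groth.Agent.Lib.Helper85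

open IsLocalRing

variable {R : Type u} [CommRing R]

/-- A quotient of a local ring by a proper ideal is local. -/
theorem isLocalRing_quotient [IsLocalRing R] (I : Ideal R) (hI : I ≠ ⊤) : IsLocalRing (R ⧸ I) :=
  haveI : Nontrivial (R ⧸ I) := Ideal.Quotient.nontrivial_iff.mpr hI
  IsLocalRing.of_surjective' (Ideal.Quotient.mk I) Ideal.Quotient.mk_surjective

/-- The maximal ideal of a local quotient is the image of the maximal ideal. -/
theorem maximalIdeal_map_of_surjective {S : Type u} [CommRing S] [IsLocalRing R] [IsLocalRing S]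
    (f : R →+* S) (hf : Function.Surjective f) :
    (maximalIdeal R).map f = maximalIdeal S := by
  rcases Ideal.map_eq_top_or_isMaximal_of_surjective f hf (maximalIdeal.isMaximal R) with h | h
  · exfalso
    have h1 : (1 : S) ∈ (maximalIdeal R).map f := by rw [h]; trivial
    obtain ⟨r, hr, hr1⟩ := (Ideal.mem_map_iff_of_surjective f hf).mp h1
    have hu : IsUnit (1 - r) := by
      by_contra hnu
      have h2 : 1 - r ∈ maximalIdeal R := (mem_maximalIdeal _).mpr hnu
      have : (1 : R) ∈ maximalIdeal R := by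
        have := Ideal.add_mem _ h2 hr
        rwa [sub_add_cancel] at this
      exact (maximalIdeal.isMaximal R).ne_top ((Ideal.eq_top_iff_one _).mpr this)
    have h0 : f (1 - r) = 0 := by rw [map_sub, map_one, hr1, sub_self]
    have := hu.map f
    rw [h0] at this
    exact not_isUnit_zero this
  · exact IsLocalRing.eq_maximalIdeal h

/-- Exchange lemma: a generating set of `m` can be modified to contain a given `x ∈ m \ m²`. -/
theorem exists_finset_insert_span_eq [IsLocalRing R] (s : Finset R)
    (hs : Ideal.span (s : Set R) = maximalIdeal R) (x : R) (hx : x ∈ maximalIdeal R)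
    (hx2 : x ∉ maximalIdeal R ^ 2) :
    ∃ t : Finset R, t.card + 1 ≤ s.card ∧ Ideal.span (insert x (t : Set R)) = maximalIdeal R := by
  classical
  have hxs : x ∈ Submodule.span R (s : Set R) := by
    change x ∈ Ideal.span (s : Set R)
    rw [hs]; exact hx
  obtain ⟨f, -, hf⟩ := Submodule.mem_span_finset.mp hxs
  have hsm : ∀ a ∈ s, a ∈ maximalIdeal R := fun a ha => by
    rw [← hs]; exact Ideal.subset_span ha
  obtain ⟨a₀, ha₀, hu⟩ : ∃ a₀ ∈ s, IsUnit (f a₀) := by
    by_contra hcon
    push Not at hcon
    apply hx2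
    rw [← hf, pow_two]
    refine Ideal.sum_mem _ fun a ha => ?_
    rw [smul_eq_mul]
    exact Ideal.mul_mem_mul ((mem_maximalIdeal _).mpr (hcon a ha)) (hsm a ha)
  refine ⟨s.erase a₀, ?_, ?_⟩
  · rw [Finset.card_erase_of_mem ha₀]
    have := Finset.card_pos.mpr ⟨a₀, ha₀⟩
    omega
  · apply le_antisymm
    · rw [Ideal.span_le]
      intro y hy
      rcases hy with rfl | hy
      · exact hx
      · exact hsm y (Finset.mem_of_mem_erase hy)
    · rw [← hs, Ideal.span_le]
      intro a ha
      by_cases haa : a = a₀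
      · subst haa
        -- a = u⁻¹ (x - Σ_{b ≠ a} f b b)
        obtain ⟨u, hu'⟩ := hu
        have hsum : f a * a = x - ∑ b ∈ s.erase a, f b • b := by
          rw [← hf, ← Finset.add_sum_erase s _ ha₀]
          simp [smul_eq_mul]
        have hmem : f a * a ∈ Ideal.span (insert x ((s.erase a : Finset R) : Set R)) := by
          rw [hsum]
          refine Ideal.sub_mem _ (Ideal.subset_span (Set.mem_insert _ _)) ?_
          refine Ideal.sum_mem _ fun b hb => ?_
          rw [smul_eq_mul]
          exact Ideal.mul_mem_left _ _ (Ideal.subset_span (Set.mem_insert_of_mem _ hb))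
        have : a = (↑u⁻¹ : R) * (f a * a) := by
          rw [← hu', ← mul_assoc, Units.inv_mul, one_mul]
        have h2 := Ideal.mul_mem_left _ (↑u⁻¹ : R) hmem
        rw [← this] at h2
        exact h2
      · exact Ideal.subset_span (Set.mem_insert_of_mem _ (Finset.mem_erase.mpr ⟨haa, ha⟩))

/-- The embedding dimension drops when dividing by `x ∈ m \ m²`. -/
theorem spanFinrank_maximalIdeal_quotient_add_one_le [IsLocalRing R] [IsNoetherianRing R]
    (x : R) (hx : x ∈ maximalIdeal R) (hx2 : x ∉ maximalIdeal R ^ 2)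
    [IsLocalRing (R ⧸ Ideal.span ({x} : Set R))] :
    (maximalIdeal (R ⧸ Ideal.span ({x} : Set R))).spanFinrank + 1 ≤
      (maximalIdeal R).spanFinrank := by
  classical
  obtain ⟨s, hscard, hs⟩ :=
    Submodule.FG.exists_span_finset_card_eq_spanFinrank (maximalIdeal R).fg_of_isNoetherianRing
  obtain ⟨t, htcard, ht⟩ := exists_finset_insert_span_eq s hs x hx hx2
  have hmax : maximalIdeal (R ⧸ Ideal.span ({x} : Set R)) =
      Ideal.span ((Ideal.Quotient.mk (Ideal.span ({x} : Set R))) '' (t : Set R)) := by
    rw [← maximalIdeal_map_of_surjective (Ideal.Quotient.mk (Ideal.span ({x} : Set R)))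
      Ideal.Quotient.mk_surjective, ← ht, Ideal.map_span, Set.image_insert_eq]
    have h0 : (Ideal.Quotient.mk (Ideal.span ({x} : Set R))) x = 0 :=
      Ideal.Quotient.eq_zero_iff_mem.mpr (Ideal.subset_span rfl)
    rw [h0]
    apply le_antisymm
    · rw [Ideal.span_le]
      intro y hy
      rcases hy with rfl | hy
      · exact Ideal.zero_mem _
      · exact Ideal.subset_span hy
    · exact Ideal.span_mono (Set.subset_insert _ _)
  have hle : (maximalIdeal (R ⧸ Ideal.span ({x} : Set R))).spanFinrank ≤ t.card := by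
    rw [hmax]
    refine (Submodule.spanFinrank_span_le_ncard_of_finite (t.finite_toSet.image _)).trans ?_
    refine (Set.ncard_image_le t.finite_toSet).trans ?_
    rw [Set.ncard_coe_finset]
  omega

theorem exists_nat_eq_of_le {a : WithBot ℕ∞} {n : ℕ} (h0 : 0 ≤ a) (h1 : a ≤ n) :
    ∃ k : ℕ, a = k := by
  induction a with
  | bot => simp at h0
  | coe a =>
    induction a with
    | top =>
      exfalso
      have : ((⊤ : ℕ∞) : WithBot ℕ∞) ≤ ((n : ℕ∞) : WithBot ℕ∞) := h1
      rw [WithBot.coe_le_coe] at this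
      simp at this
    | coe k => exact ⟨k, rfl⟩

theorem span_singleton_ne_top [IsLocalRing R] (x : R) (hx : x ∈ maximalIdeal R) :
    Ideal.span ({x} : Set R) ≠ ⊤ := by
  intro h
  have hle : Ideal.span ({x} : Set R) ≤ maximalIdeal R :=
    (Ideal.span_singleton_le_iff_mem _).mpr hx
  rw [h] at hle
  exact (maximalIdeal.isMaximal R).ne_top (top_le_iff.mp hle)

/-- `R ⧸ (x)` is a regular local ring of embedding dimension one less, for `x ∈ m \ m²`. -/
theorem isRegularLocalRing_quotient_span_singleton [IsRegularLocalRing R]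
    (x : R) (hx : x ∈ maximalIdeal R) (hx2 : x ∉ maximalIdeal R ^ 2) :
    ∃ _ : IsRegularLocalRing (R ⧸ Ideal.span ({x} : Set R)),
      (maximalIdeal (R ⧸ Ideal.span ({x} : Set R))).spanFinrank + 1 =
        (maximalIdeal R).spanFinrank := by
  have : IsLocalRing (R ⧸ Ideal.span ({x} : Set R)) :=
    isLocalRing_quotient _ (span_singleton_ne_top x hx)
  have h1 := spanFinrank_maximalIdeal_quotient_add_one_le x hx hx2
  have h2 : ringKrullDim R ≤ ringKrullDim (R ⧸ Ideal.span ({x} : Set R)) + 1 := by
    have := ringKrullDim_le_ringKrullDim_quotient_add_encard ({x} : Set R) (by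
      rw [Set.singleton_subset_iff, ← Ideal.jacobson_bot,
        IsLocalRing.jacobson_eq_maximalIdeal _ bot_ne_top]
      exact hx)
    simpa using this
  have h3 : ringKrullDim R = (maximalIdeal R).spanFinrank :=
    (IsRegularLocalRing.spanFinrank_maximalIdeal (R := R)).symm
  have h4 := ringKrullDim_le_spanFinrank_maximalIdeal (R ⧸ Ideal.span ({x} : Set R))
  obtain ⟨k, hk⟩ := exists_nat_eq_of_le ringKrullDim_nonneg_of_nontrivial h4
  rw [hk] at h2 h4
  rw [h3] at h2
  have h2' : (maximalIdeal R).spanFinrank ≤ k + 1 := by exact_mod_cast h2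
  have h4' : k ≤ (maximalIdeal (R ⧸ Ideal.span ({x} : Set R))).spanFinrank := by exact_mod_cast h4
  have hreg : IsRegularLocalRing (R ⧸ Ideal.span ({x} : Set R)) := by
    apply IsRegularLocalRing.of_spanFinrank_maximalIdeal_le
    rw [hk]
    have : (maximalIdeal (R ⧸ Ideal.span ({x} : Set R))).spanFinrank ≤ k := by omega
    exact_mod_cast this
  exact ⟨hreg, by omega⟩

/-- In a regular local ring of positive dimension, some `x ∈ m` avoids `m²` and all minimal primes. -/
theorem exists_mem_notMem_sq_notMem_minimalPrimes [IsRegularLocalRing R]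
    (hpos : (maximalIdeal R).spanFinrank ≠ 0) :
    ∃ x ∈ maximalIdeal R, x ∉ maximalIdeal R ^ 2 ∧ ∀ p ∈ minimalPrimes R, x ∉ p := by
  classical
  have hfin : (minimalPrimes R).Finite := minimalPrimes.finite_of_isNoetherianRing R
  let s : Finset (Ideal R) := insert (maximalIdeal R ^ 2) hfin.toFinset
  have hprime : ∀ i ∈ s, i ≠ maximalIdeal R ^ 2 → i ≠ maximalIdeal R ^ 2 → (id i : Ideal R).IsPrime := by
    intro i hi hne _
    rcases Finset.mem_insert.mp hi with h | h
    · exact (hne h).elim
    · exact ((Set.Finite.mem_toFinset hfin).mp h).1.1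
  have hnot : ¬ ∃ i ∈ s, maximalIdeal R ≤ id i := by
    rintro ⟨i, hi, hle⟩
    rcases Finset.mem_insert.mp hi with h | h
    · -- m ≤ m² ⟹ m = ⊥
      rw [h, id, pow_two] at hle
      have hbot : maximalIdeal R = ⊥ :=
        Submodule.eq_bot_of_le_smul_of_le_jacobson_bot (maximalIdeal R) (maximalIdeal R)
          (maximalIdeal R).fg_of_isNoetherianRing hle
          (IsLocalRing.jacobson_eq_maximalIdeal _ bot_ne_top).ge
      apply hpos
      rw [hbot]
      exact Submodule.spanFinrank_bot
    · have hmin : i ∈ minimalPrimes R := (Set.Finite.mem_toFinset hfin).mp h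
      have hip : i.IsPrime := hmin.1.1
      have heq : i = maximalIdeal R :=
        ((maximalIdeal.isMaximal R).eq_of_le hip.ne_top hle).symm
      rw [heq] at hmin
      have hh : (maximalIdeal R).height = 0 := Ideal.height_eq_zero_iff.mpr hmin
      have hdim : ringKrullDim R = 0 := by
        rw [← IsLocalRing.maximalIdeal_height_eq_ringKrullDim, hh]; rfl
      have h3 : ringKrullDim R = (maximalIdeal R).spanFinrank :=
        (IsRegularLocalRing.spanFinrank_maximalIdeal (R := R)).symm
      rw [hdim] at h3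
      apply hpos
      exact_mod_cast h3.symm
  have hcover := (Ideal.subset_union_prime (s := s) (f := id) (maximalIdeal R ^ 2)
    (maximalIdeal R ^ 2) hprime (I := maximalIdeal R)).not.mpr hnot
  rw [Set.not_subset] at hcover
  obtain ⟨x, hxm, hx⟩ := hcover
  simp only [Set.mem_iUnion, not_exists] at hx
  refine ⟨x, hxm, ?_, ?_⟩
  · intro h
    exact hx (maximalIdeal R ^ 2) (Finset.mem_coe.mpr (Finset.mem_insert_self _ _)) h
  · intro p hp h
    exact hx p (Finset.mem_coe.mpr (Finset.mem_insert_of_mem
      ((Set.Finite.mem_toFinset hfin).mpr hp))) h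

theorem isDomain_of_spanFinrank_eq : ∀ (d : ℕ) (R : Type u) [CommRing R] [IsRegularLocalRing R],
    (maximalIdeal R).spanFinrank = d → IsDomain R := by
  intro d
  induction d with
  | zero =>
    intro R _ _ h0
    have hbot : maximalIdeal R = ⊥ :=
      (Submodule.spanFinrank_eq_zero_iff_eq_bot (maximalIdeal R).fg_of_isNoetherianRing).mp h0
    have hf : IsField R := IsLocalRing.isField_iff_maximalIdeal_eq.mpr hbot
    exact hf.isDomain
  | succ e ih =>
    intro R _ _ hd
    obtain ⟨x, hxm, hx2, hxmin⟩ :=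
      exists_mem_notMem_sq_notMem_minimalPrimes (R := R) (by rw [hd]; exact Nat.succ_ne_zero e)
    obtain ⟨hreg, hdim⟩ := isRegularLocalRing_quotient_span_singleton x hxm hx2
    have hdom : IsDomain (R ⧸ Ideal.span ({x} : Set R)) := ih _ (by omega)
    have hprime : (Ideal.span ({x} : Set R)).IsPrime := (Ideal.Quotient.isDomain_iff_prime _).mp hdom
    obtain ⟨p, hpmin, hple⟩ := Ideal.exists_minimalPrimes_le (I := (⊥ : Ideal R))
      (J := Ideal.span ({x} : Set R)) bot_le
    have hpp : p.IsPrime := hpmin.1.1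
    have hxp : x ∉ p := hxmin p hpmin
    have hsub : p ≤ maximalIdeal R • p := by
      intro y hy
      obtain ⟨a, rfl⟩ := Ideal.mem_span_singleton'.mp (hple hy)
      have hap : a ∈ p := (hpp.mem_or_mem hy).resolve_right hxp
      rw [mul_comm]
      exact Submodule.smul_mem_smul hxm hap
    have hbot : p = ⊥ :=
      Submodule.eq_bot_of_le_smul_of_le_jacobson_bot (maximalIdeal R) p
        p.fg_of_isNoetherianRing hsub (IsLocalRing.jacobson_eq_maximalIdeal _ bot_ne_top).ge
    rw [hbot] at hpp
    exact IsDomain.of_bot_isPrime R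

/-- A regular local ring is a domain. -/
theorem isDomain_of_isRegularLocalRing (R : Type u) [CommRing R] [IsRegularLocalRing R] :
    IsDomain R :=
  isDomain_of_spanFinrank_eq _ R rfl

/-- If `n ≤ m²` then the embedding dimension of `R ⧸ n` is at least that of `R`. -/
theorem spanFinrank_maximalIdeal_le_of_le_sq [IsLocalRing R] [IsNoetherianRing R] (n : Ideal R)
    (hn : n ≤ maximalIdeal R ^ 2) [IsLocalRing (R ⧸ n)] :
    (maximalIdeal R).spanFinrank ≤ (maximalIdeal (R ⧸ n)).spanFinrank := by
  classical
  obtain ⟨s, hscard, hs⟩ := Submodule.FG.exists_span_finset_card_eq_spanFinrank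
    (maximalIdeal (R ⧸ n)).fg_of_isNoetherianRing
  have hsurj : Function.Surjective (Ideal.Quotient.mk n) := Ideal.Quotient.mk_surjective
  let t : Finset R := s.image (Function.surjInv hsurj)
  have hts : (Ideal.Quotient.mk n) '' (t : Set R) = (s : Set (R ⧸ n)) := by
    ext y
    simp only [t, Finset.coe_image, Set.mem_image, Finset.mem_coe]
    constructor
    · rintro ⟨x, ⟨z, hz, rfl⟩, rfl⟩
      rw [Function.surjInv_eq hsurj]; exact hz
    · intro hy
      exact ⟨_, ⟨y, hy, rfl⟩, Function.surjInv_eq hsurj y⟩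
  have hmap : (Ideal.span (t : Set R)).map (Ideal.Quotient.mk n) =
      (maximalIdeal R).map (Ideal.Quotient.mk n) := by
    rw [Ideal.map_span, hts, maximalIdeal_map_of_surjective _ hsurj]
    exact hs
  have hcomap := congrArg (Ideal.comap (Ideal.Quotient.mk n)) hmap
  rw [Ideal.comap_map_of_surjective _ hsurj, Ideal.comap_map_of_surjective _ hsurj,
    ← RingHom.ker_eq_comap_bot, Ideal.mk_ker] at hcomap
  have hnm : n ≤ maximalIdeal R := hn.trans (Ideal.pow_le_self two_ne_zero)
  have hle : maximalIdeal R ≤ Ideal.span (t : Set R) := by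
    apply Submodule.le_of_le_smul_of_le_jacobson_bot (maximalIdeal R).fg_of_isNoetherianRing
      (IsLocalRing.jacobson_eq_maximalIdeal _ bot_ne_top).ge
    calc maximalIdeal R ≤ maximalIdeal R ⊔ n := le_sup_left
      _ = Ideal.span (t : Set R) ⊔ n := hcomap.symm
      _ ≤ Ideal.span (t : Set R) ⊔ maximalIdeal R • maximalIdeal R := by
        refine sup_le_sup_left ?_ _
        rw [smul_eq_mul, ← pow_two]; exact hn
  have hge : Ideal.span (t : Set R) ≤ maximalIdeal R := by
    calc Ideal.span (t : Set R) ≤ Ideal.span (t : Set R) ⊔ n := le_sup_left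
      _ = maximalIdeal R ⊔ n := hcomap
      _ ≤ maximalIdeal R := sup_le le_rfl hnm
  have heq : maximalIdeal R = Ideal.span (t : Set R) := le_antisymm hle hge
  calc (maximalIdeal R).spanFinrank = (Ideal.span (t : Set R)).spanFinrank := by rw [← heq]
    _ ≤ (t : Set R).ncard := Submodule.spanFinrank_span_le_ncard_of_finite t.finite_toSet
    _ = t.card := Set.ncard_coe_finset t
    _ ≤ s.card := Finset.card_image_le
    _ = (maximalIdeal (R ⧸ n)).spanFinrank := hscard

/-- If `R` is a regular local ring and `R ⧸ n` is regular local with `n ≤ m²`, then `n = ⊥`. -/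
theorem eq_bot_of_le_sq_of_quotient_regular [IsRegularLocalRing R] (n : Ideal R)
    (hreg : IsRegularLocalRing (R ⧸ n)) (hn : n ≤ maximalIdeal R ^ 2) : n = ⊥ := by
  have hdomain : IsDomain R := isDomain_of_isRegularLocalRing R
  by_contra hne
  obtain ⟨a, han, ha0⟩ := Submodule.exists_mem_ne_zero_of_ne_bot hne
  have hanz : a ∈ nonZeroDivisors R := mem_nonZeroDivisors_of_ne_zero ha0
  have h1 := ringKrullDim_quotient_succ_le_of_nonZeroDivisor hanz
  have hspan : Ideal.span ({a} : Set R) ≤ n := (Ideal.span_singleton_le_iff_mem _).mpr han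
  have h2 : ringKrullDim (R ⧸ n) ≤ ringKrullDim (R ⧸ Ideal.span ({a} : Set R)) :=
    ringKrullDim_le_of_surjective (Ideal.Quotient.factor hspan)
      (Ideal.Quotient.factor_surjective hspan)
  have h3 : ringKrullDim R = (maximalIdeal R).spanFinrank :=
    (IsRegularLocalRing.spanFinrank_maximalIdeal (R := R)).symm
  have h4 : ringKrullDim (R ⧸ n) = (maximalIdeal (R ⧸ n)).spanFinrank :=
    (IsRegularLocalRing.spanFinrank_maximalIdeal (R := R ⧸ n)).symm
  have h5 := spanFinrank_maximalIdeal_le_of_le_sq n hn
  have h6 : ((maximalIdeal (R ⧸ n)).spanFinrank : WithBot ℕ∞) + 1 ≤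
      ((maximalIdeal R).spanFinrank : WithBot ℕ∞) := by
    rw [← h3, ← h4]
    exact (add_le_add_left h2 1).trans h1
  have h6' : (maximalIdeal (R ⧸ n)).spanFinrank + 1 ≤ (maximalIdeal R).spanFinrank := by
    exact_mod_cast h6
  omega

theorem le_maximalIdeal_of_quotient_isLocalRing [IsLocalRing R] (n : Ideal R)
    [Nontrivial (R ⧸ n)] : n ≤ maximalIdeal R :=
  IsLocalRing.le_maximalIdeal (Ideal.Quotient.nontrivial_iff.mp inferInstance)

theorem inf_sq_eq_mul_aux : ∀ (d : ℕ) (R : Type u) [CommRing R] [IsRegularLocalRing R],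
    (maximalIdeal R).spanFinrank = d → ∀ (n : Ideal R), IsRegularLocalRing (R ⧸ n) →
      n ⊓ maximalIdeal R ^ 2 = maximalIdeal R * n := by
  intro d
  induction d with
  | zero =>
    intro R _ _ h0 n hreg
    have hbot : maximalIdeal R = ⊥ :=
      (Submodule.spanFinrank_eq_zero_iff_eq_bot (maximalIdeal R).fg_of_isNoetherianRing).mp h0
    have hnm : n ≤ maximalIdeal R := le_maximalIdeal_of_quotient_isLocalRing n
    rw [hbot] at hnm ⊢
    rw [le_bot_iff.mp hnm]
    simp
  | succ e ih =>
    intro R _ _ hd n hreg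
    have hnm : n ≤ maximalIdeal R := le_maximalIdeal_of_quotient_isLocalRing n
    have hmul_le : maximalIdeal R * n ≤ n ⊓ maximalIdeal R ^ 2 := by
      refine le_inf Ideal.mul_le_right ?_
      rw [pow_two]
      exact Ideal.mul_mono_right hnm
    by_cases hcase : n ≤ maximalIdeal R ^ 2
    · have := eq_bot_of_le_sq_of_quotient_regular n hreg hcase
      rw [this]; simp
    · obtain ⟨x, hxn, hx2⟩ := Set.not_subset.mp hcase
      have hxm : x ∈ maximalIdeal R := hnm hxn
      obtain ⟨hreg', hdim⟩ := isRegularLocalRing_quotient_span_singleton x hxm hx2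
      have hspan : Ideal.span ({x} : Set R) ≤ n := (Ideal.span_singleton_le_iff_mem _).mpr hxn
      -- the quotient of R/(x) by the image of n is R/n
      have hreg'' : IsRegularLocalRing
          ((R ⧸ Ideal.span ({x} : Set R)) ⧸ n.map (Ideal.Quotient.mk (Ideal.span ({x} : Set R)))) :=
        IsRegularLocalRing.of_ringEquiv (DoubleQuot.quotQuotEquivQuotOfLE hspan).symm
      have hIH := ih (R ⧸ Ideal.span ({x} : Set R)) (by omega)
        (n.map (Ideal.Quotient.mk (Ideal.span ({x} : Set R)))) hreg''
      have hsurj : Function.Surjective (Ideal.Quotient.mk (Ideal.span ({x} : Set R))) :=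
        Ideal.Quotient.mk_surjective
      rw [← maximalIdeal_map_of_surjective _ hsurj, ← Ideal.map_pow, ← Ideal.map_mul] at hIH
      refine le_antisymm ?_ hmul_le
      intro y hy
      have hy' : Ideal.Quotient.mk (Ideal.span ({x} : Set R)) y ∈
          (maximalIdeal R * n).map (Ideal.Quotient.mk (Ideal.span ({x} : Set R))) := by
        rw [← hIH]
        exact ⟨Ideal.mem_map_of_mem _ hy.1, Ideal.mem_map_of_mem _ hy.2⟩
      obtain ⟨z, hz, hzy⟩ := (Ideal.mem_map_iff_of_surjective _ hsurj).mp hy'
      have hker : y - z ∈ Ideal.span ({x} : Set R) := by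
        rw [← Ideal.Quotient.eq_zero_iff_mem, map_sub, hzy, sub_self]
      obtain ⟨a, ha⟩ := Ideal.mem_span_singleton'.mp hker
      have hax2 : a * x ∈ maximalIdeal R ^ 2 := by
        rw [ha]
        exact Ideal.sub_mem _ hy.2 (hmul_le hz).2
      have ham : a ∈ maximalIdeal R := by
        rw [mem_maximalIdeal]
        intro hu
        apply hx2
        obtain ⟨u, rfl⟩ := hu
        have := Ideal.mul_mem_left _ (↑u⁻¹ : R) hax2
        rwa [← mul_assoc, Units.inv_mul, one_mul] at this
      have : y = z + a * x := by rw [ha]; ring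
      rw [this]
      exact Ideal.add_mem _ hz (Ideal.mul_mem_mul ham hxn)

/-- EGA 0_IV 17.1.7-type statement: if `R` and `R ⧸ n` are regular local rings then
`n ⊓ m² = m * n`. -/
theorem inf_sq_eq_mul_of_quotient_regular [IsRegularLocalRing R] (n : Ideal R)
    (hreg : IsRegularLocalRing (R ⧸ n)) :
    n ⊓ maximalIdeal R ^ 2 = maximalIdeal R * n :=
  inf_sq_eq_mul_aux _ R rfl n hreg

end Groth.Agent.Lib.Helper85
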