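import Groth.Agent.Lib.Helper85.AzumayaBaseChange
import Mathlib.RingTheory.Flat.Equalizer
import Mathlib.RingTheory.Flat.EquationalCriterion
import Mathlib.RingTheory.Flat.FaithfullyFlat.Basic
import Mathlib.RingTheory.Finiteness.Descent

/-!
# Faithfully flat descent of Azumaya algebras (helper85)
-/

set_option autoImplicit false
universe u v w

namespace Groth.Agent.Lib.Helper85

open scoped TensorProduct
open MulOpposite

section FP

variable (R : Type u) [CommRing R] (S : Type v) [CommRing S] [Algebra R S]
  (M : Type w) [AddCommGroup M] [Module R M]

/-- Finite presentation of modules descends along faithfully flat ring maps. -/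
theorem finitePresentation_of_tensorProduct_of_faithfullyFlat [Module.FaithfullyFlat R S]
    [Module.FinitePresentation S (S ⊗[R] M)] : Module.FinitePresentation R M := by
  have : Module.Finite R M := Module.Finite.of_finite_tensorProduct_of_faithfullyFlat S
  obtain ⟨n, f, hf⟩ := Module.Finite.exists_fin' R M
  let fS : S ⊗[R] (Fin n → R) →ₗ[S] S ⊗[R] M := TensorProduct.AlgebraTensorModule.lTensor S S f
  have hfS : Function.Surjective fS := by
    have : (fS : S ⊗[R] (Fin n → R) → S ⊗[R] M) = f.lTensor S := rfl
    rw [this]
    exact LinearMap.lTensor_surjective S hf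
  have hker : (LinearMap.ker fS).FG := Module.FinitePresentation.fg_ker fS hfS
  have : Module.Finite S (LinearMap.ker fS) := Module.Finite.iff_fg.mpr hker
  have : Module.Finite S (S ⊗[R] LinearMap.ker f) :=
    Module.Finite.equiv (LinearMap.tensorKerEquiv S S f).symm
  have : Module.Finite R (LinearMap.ker f) :=
    Module.Finite.of_finite_tensorProduct_of_faithfullyFlat S
  exact Module.finitePresentation_of_surjective f hf (Module.Finite.iff_fg.mp inferInstance)

/-- Finite projective modules descend along faithfully flat ring maps. -/
theorem finite_projective_of_tensorProduct_of_faithfullyFlat [Module.FaithfullyFlat R S]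
    [Module.Finite S (S ⊗[R] M)] [Module.Projective S (S ⊗[R] M)] :
    Module.Finite R M ∧ Module.Projective R M := by
  have : Module.Finite R M := Module.Finite.of_finite_tensorProduct_of_faithfullyFlat S
  have : Module.Flat R M := Module.Flat.of_flat_tensorProduct R M S
  have : Module.FinitePresentation S (S ⊗[R] M) := Module.finitePresentation_of_projective S _
  have : Module.FinitePresentation R M := finitePresentation_of_tensorProduct_of_faithfullyFlat R S M
  exact ⟨inferInstance, Module.Flat.projective_of_finitePresentation⟩

end FP

section Descent

variable (R : Type u) [CommRing R] (S : Type v) [CommRing S] [Algebra R S]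
  (B : Type w) [Ring B] [Algebra R B]

/-- Bijectivity of `mulLeftRight` descends along a faithfully flat base change, for `B` finite
projective. -/
theorem mulLeftRight_bijective_of_baseChange [Module.FaithfullyFlat R S]
    [Module.Finite R B] [Module.Projective R B]
    (h : Function.Bijective (AlgHom.mulLeftRight S (S ⊗[R] B))) :
    Function.Bijective (AlgHom.mulLeftRight R B) := by
  have h1 : Function.Bijective ((AlgHom.mulLeftRight S (S ⊗[R] B)).toLinearMap ∘ₗ
      (baseChangeReorder R S B).toLinearMap) := by
    rw [LinearMap.coe_comp]
    exact Function.Bijective.comp h (baseChangeReorder R S B).bijective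
  rw [mulLeftRight_baseChange_comp, LinearMap.coe_comp] at h1
  have hT := tensorProduct_bijective_of_finite_projective R S B B
  have h2 : Function.Bijective ((AlgHom.mulLeftRight R B).toLinearMap.baseChange S) :=
    (Function.Bijective.of_comp_iff' hT _).mp h1
  have h3 : ((AlgHom.mulLeftRight R B).toLinearMap.baseChange S :
      S ⊗[R] (B ⊗[R] Bᵐᵒᵖ) → S ⊗[R] Module.End R B) =
      (AlgHom.mulLeftRight R B).toLinearMap.lTensor S := rfl
  rw [h3] at h2
  exact ⟨(Module.FaithfullyFlat.lTensor_injective_iff_injective R S _).mp h2.1,
    (Module.FaithfullyFlat.lTensor_surjective_iff_surjective R S _).mp h2.2⟩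

/-- Azumaya algebras descend along faithfully flat ring maps (no finiteness assumption on `B`). -/
theorem isAzumaya_of_baseChange_faithfullyFlat [Module.FaithfullyFlat R S]
    [IsAzumaya S (S ⊗[R] B)] : IsAzumaya R B := by
  obtain ⟨hfin, hproj⟩ := finite_projective_of_tensorProduct_of_faithfullyFlat R S B
  have hfaith : FaithfulSMul R B := by
    refine ⟨fun {r r'} hrr => ?_⟩
    have hinj : Function.Injective (algebraMap R S) :=
      FaithfulSMul.algebraMap_injective R S
    apply hinj
    apply FaithfulSMul.eq_of_smul_eq_smul (α := S ⊗[R] B)
    intro x
    induction x using TensorProduct.induction_on with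
    | zero => simp
    | add x y hx hy => rw [smul_add, smul_add, hx, hy]
    | tmul s b =>
      rw [algebraMap_smul, algebraMap_smul, ← TensorProduct.tmul_smul, ← TensorProduct.tmul_smul,
        hrr b]
  exact ⟨mulLeftRight_bijective_of_baseChange R S B IsAzumaya.bij⟩

end Descent

end Groth.Agent.Lib.Helper85
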