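import Groth.Agent.Lib.Helper85.RegularLocal

/-!
# Ideals with regular quotient are generated by part of a regular system of parameters (helper85)
-/

set_option autoImplicit false
universe u

namespace Groth.Agent.Lib.Helper85

open IsLocalRing

variable {R : Type u} [CommRing R]

theorem sup_eq_sup_of_map_mk_eq (K A B : Ideal R)
    (h : A.map (Ideal.Quotient.mk K) = B.map (Ideal.Quotient.mk K)) : A ⊔ K = B ⊔ K := by
  have hsurj : Function.Surjective (Ideal.Quotient.mk K) := Ideal.Quotient.mk_surjective
  have hcomap := congrArg (Ideal.comap (Ideal.Quotient.mk K)) h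
  rwa [Ideal.comap_map_of_surjective _ hsurj, Ideal.comap_map_of_surjective _ hsurj,
    ← RingHom.ker_eq_comap_bot, Ideal.mk_ker] at hcomap

/-- A finitely generated ideal with `spanFinrank = d` is generated by a family indexed by
`Fin d`. -/
theorem exists_fin_span_range_eq (J : Ideal R) (hJ : J.FG) {d : ℕ} (hd : J.spanFinrank = d) :
    ∃ x : Fin d → R, Ideal.span (Set.range x) = J := by
  classical
  obtain ⟨s, hscard, hs⟩ := Submodule.FG.exists_span_finset_card_eq_spanFinrank hJ
  let e : s ≃ Fin d := s.equivFinOfCardEq (hscard.trans hd)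
  refine ⟨fun i => ((e.symm i : s) : R), ?_⟩
  have : Set.range (fun i => ((e.symm i : s) : R)) = (s : Set R) := by
    have h1 : (fun i => ((e.symm i : s) : R)) = Subtype.val ∘ e.symm := rfl
    rw [h1, EquivLike.range_comp]
    simp
  rw [this]
  exact hs

theorem exists_generators_aux : ∀ (d : ℕ) (R : Type u) [CommRing R] [IsRegularLocalRing R],
    (maximalIdeal R).spanFinrank = d → ∀ (I : Ideal R), IsRegularLocalRing (R ⧸ I) →
      ∃ (x : Fin d → R) (c : ℕ) (hc : c ≤ d), Ideal.span (Set.range x) = maximalIdeal R ∧
        I = Ideal.span (Set.range (fun i : Fin c => x (Fin.castLE hc i))) := by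
  intro d
  induction d with
  | zero =>
    intro R _ _ h0 I hreg
    have hbot : maximalIdeal R = ⊥ :=
      (Submodule.spanFinrank_eq_zero_iff_eq_bot (maximalIdeal R).fg_of_isNoetherianRing).mp h0
    have hIm : I ≤ maximalIdeal R := le_maximalIdeal_of_quotient_isLocalRing I
    rw [hbot] at hIm
    refine ⟨Fin.elim0, 0, le_rfl, ?_, ?_⟩
    · rw [hbot]; simp
    · rw [le_bot_iff.mp hIm]; simp
  | succ e ih =>
    intro R _ _ hd I hreg
    have hIm : I ≤ maximalIdeal R := le_maximalIdeal_of_quotient_isLocalRing I
    by_cases hcase : I ≤ maximalIdeal R ^ 2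
    · have hI0 := eq_bot_of_le_sq_of_quotient_regular I hreg hcase
      obtain ⟨x, hx⟩ := exists_fin_span_range_eq (maximalIdeal R)
        (maximalIdeal R).fg_of_isNoetherianRing hd
      refine ⟨x, 0, Nat.zero_le _, hx, ?_⟩
      rw [hI0]; simp
    · obtain ⟨y, hyI, hy2⟩ := Set.not_subset.mp hcase
      have hym : y ∈ maximalIdeal R := hIm hyI
      obtain ⟨hreg', hdim⟩ := isRegularLocalRing_quotient_span_singleton y hym hy2
      have hspan : Ideal.span ({y} : Set R) ≤ I := (Ideal.span_singleton_le_iff_mem _).mpr hyI
      have hspanm : Ideal.span ({y} : Set R) ≤ maximalIdeal R :=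
        (Ideal.span_singleton_le_iff_mem _).mpr hym
      have hreg'' : IsRegularLocalRing
          ((R ⧸ Ideal.span ({y} : Set R)) ⧸ I.map (Ideal.Quotient.mk (Ideal.span ({y} : Set R)))) :=
        IsRegularLocalRing.of_ringEquiv (DoubleQuot.quotQuotEquivQuotOfLE hspan).symm
      obtain ⟨x', c', hc', hx'm, hI'⟩ := ih (R ⧸ Ideal.span ({y} : Set R)) (by omega)
        (I.map (Ideal.Quotient.mk (Ideal.span ({y} : Set R)))) hreg''
      have hsurj : Function.Surjective (Ideal.Quotient.mk (Ideal.span ({y} : Set R))) :=
        Ideal.Quotient.mk_surjective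
      choose x'' hx'' using fun i => hsurj (x' i)
      have hc : c' + 1 ≤ e + 1 := Nat.succ_le_succ hc'
      refine ⟨Fin.cons y x'', c' + 1, hc, ?_, ?_⟩
      · rw [Fin.range_cons, Ideal.span_insert]
        have hmap : (Ideal.span (Set.range x'')).map
            (Ideal.Quotient.mk (Ideal.span ({y} : Set R))) =
            (maximalIdeal R).map (Ideal.Quotient.mk (Ideal.span ({y} : Set R))) := by
          rw [maximalIdeal_map_of_surjective _ hsurj, ← hx'm, Ideal.map_span, ← Set.range_comp]
          congr 2
          funext i
          exact hx'' i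
        have := sup_eq_sup_of_map_mk_eq _ _ _ hmap
        rw [sup_comm, this]
        exact sup_eq_left.mpr hspanm
      · have hfun : (fun i : Fin (c' + 1) => (Fin.cons y x'' : Fin (e + 1) → R) (Fin.castLE hc i)) =
            Fin.cons y (fun j : Fin c' => x'' (Fin.castLE hc' j)) := by
          funext i
          induction i using Fin.cases with
          | zero => simp
          | succ j => simp
        rw [hfun, Fin.range_cons, Ideal.span_insert]
        have hmap : (Ideal.span (Set.range fun j : Fin c' => x'' (Fin.castLE hc' j))).map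
            (Ideal.Quotient.mk (Ideal.span ({y} : Set R))) =
            I.map (Ideal.Quotient.mk (Ideal.span ({y} : Set R))) := by
          rw [hI', Ideal.map_span, ← Set.range_comp]
          congr 2
          funext i
          exact hx'' _
        have := sup_eq_sup_of_map_mk_eq _ _ _ hmap
        rw [sup_comm, this]
        exact (sup_eq_left.mpr hspan).symm

/-- If `R` is regular local of dimension `d` and `R ⧸ I` is regular local, then `I` is generated
by the first `c` members of a system of `d` generators of the maximal ideal. -/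
theorem exists_generators_of_quotient_regular [IsRegularLocalRing R] (d : ℕ)
    (hd : ringKrullDim R = d) (I : Ideal R) (hreg : IsRegularLocalRing (R ⧸ I)) :
    ∃ (x : Fin d → R) (c : ℕ) (hc : c ≤ d), Ideal.span (Set.range x) = maximalIdeal R ∧
      I = Ideal.span (Set.range (fun i : Fin c => x (Fin.castLE hc i))) := by
  refine exists_generators_aux d R ?_ I hreg
  have h3 : ((maximalIdeal R).spanFinrank : WithBot ℕ∞) = ringKrullDim R :=
    IsRegularLocalRing.spanFinrank_maximalIdeal (R := R)
  rw [hd] at h3
  exact_mod_cast h3

end Groth.Agent.Lib.Helper85
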