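import Groth.Agent.Lib.Helper85.RegularLocal
import Mathlib.RingTheory.Regular.RegularSequence
import Mathlib.RingTheory.KrullDimension.Regular

/-!
# Regular systems of parameters are regular sequences (helper85)
-/

set_option autoImplicit false
universe u

namespace Groth.Agent.Lib.Helper85

open IsLocalRing RingTheory.Sequence
open scoped Pointwise

variable {R : Type u} [CommRing R]

/-- Regular sequences in `R` starting with `r` correspond to regular sequences in `R ⧸ (r)`. -/
theorem isRegular_cons_iff_quotient (r : R) (rs : List R) :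
    IsRegular R (r :: rs) ↔ IsSMulRegular R r ∧
      IsRegular (R ⧸ Ideal.span ({r} : Set R))
        (rs.map (Ideal.Quotient.mk (Ideal.span ({r} : Set R)))) := by
  rw [isRegular_cons_iff]
  refine and_congr_right' ?_
  have h : (r • ⊤ : Submodule R R) = Ideal.span ({r} : Set R) := by
    simp [← Submodule.ideal_span_singleton_smul]
  let e : QuotSMulTop r R ≃ₗ[R] (R ⧸ Ideal.span ({r} : Set R)) :=
    Submodule.quotEquivOfEq _ _ h
  refine e.toAddEquiv.isRegular_congr ?_
  rw [List.forall₂_map_right_iff, List.forall₂_same]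
  intro a _ x
  change e (a • x) = _
  rw [e.map_smul]
  rfl

theorem spanFinrank_span_range_le {M : Type*} [AddCommGroup M] [Module R M] {d : ℕ}
    (f : Fin d → M) : (Submodule.span R (Set.range f)).spanFinrank ≤ d := by
  classical
  have h : Set.range f = ((Finset.univ.image f : Finset M) : Set M) := by simp
  rw [h]
  refine (Submodule.spanFinrank_span_le_ncard_of_finite (Finset.finite_toSet _)).trans ?_
  rw [Set.ncard_coe_finset]
  exact Finset.card_image_le.trans (by simp)

/-- In a local ring, if `x 0, …, x d` generate the maximal ideal then the images of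
`x 1, …, x d` generate the maximal ideal of `R ⧸ (x 0)`. -/
theorem maximalIdeal_quotient_eq_span_range_succ [IsLocalRing R] {d : ℕ} (x : Fin (d + 1) → R)
    (hx : Ideal.span (Set.range x) = maximalIdeal R)
    [IsLocalRing (R ⧸ Ideal.span ({x 0} : Set R))] :
    Ideal.span (Set.range fun i : Fin d => Ideal.Quotient.mk (Ideal.span ({x 0} : Set R))
      (x i.succ)) = maximalIdeal (R ⧸ Ideal.span ({x 0} : Set R)) := by
  rw [← maximalIdeal_map_of_surjective (Ideal.Quotient.mk (Ideal.span ({x 0} : Set R)))
    Ideal.Quotient.mk_surjective, ← hx, Ideal.map_span]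
  apply le_antisymm
  · apply Ideal.span_mono
    rintro _ ⟨i, rfl⟩
    exact ⟨x i.succ, ⟨i.succ, rfl⟩, rfl⟩
  · rw [Ideal.span_le]
    rintro _ ⟨_, ⟨i, rfl⟩, rfl⟩
    induction i using Fin.cases with
    | zero =>
      have h0 : (Ideal.Quotient.mk (Ideal.span ({x 0} : Set R))) (x 0) = 0 :=
        Ideal.Quotient.eq_zero_iff_mem.mpr (Ideal.subset_span rfl)
      rw [h0]
      exact Ideal.zero_mem _
    | succ j => exact Ideal.subset_span ⟨j, rfl⟩

theorem isRegular_ofFn_aux : ∀ (d : ℕ) (R : Type u) [CommRing R] [IsRegularLocalRing R],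
    ringKrullDim R = d → ∀ (x : Fin d → R), Ideal.span (Set.range x) = maximalIdeal R →
      IsRegular R (List.ofFn x) := by
  intro d
  induction d with
  | zero =>
    intro R _ _ _ x _
    rw [List.ofFn_zero]
    exact IsRegular.nil R R
  | succ d ih =>
    intro R _ _ hd x hx
    have hr : x 0 ∈ maximalIdeal R := by
      rw [← hx]; exact Ideal.subset_span ⟨0, rfl⟩
    have : IsLocalRing (R ⧸ Ideal.span ({x 0} : Set R)) :=
      isLocalRing_quotient _ (span_singleton_ne_top (x 0) hr)
    have hmax := maximalIdeal_quotient_eq_span_range_succ x hx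
    have h1 : (maximalIdeal (R ⧸ Ideal.span ({x 0} : Set R))).spanFinrank ≤ d := by
      rw [← hmax]
      exact spanFinrank_span_range_le _
    have h2 : ringKrullDim R ≤ ringKrullDim (R ⧸ Ideal.span ({x 0} : Set R)) + 1 := by
      have := ringKrullDim_le_ringKrullDim_quotient_add_encard ({x 0} : Set R) (by
        rw [Set.singleton_subset_iff, ← Ideal.jacobson_bot,
          IsLocalRing.jacobson_eq_maximalIdeal _ bot_ne_top]
        exact hr)
      simpa using this
    have h4 := ringKrullDim_le_spanFinrank_maximalIdeal (R ⧸ Ideal.span ({x 0} : Set R))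
    obtain ⟨k, hk⟩ := exists_nat_eq_of_le ringKrullDim_nonneg_of_nontrivial h4
    rw [hk] at h2 h4
    rw [hd] at h2
    have h2' : d + 1 ≤ k + 1 := by exact_mod_cast h2
    have h4' : k ≤ (maximalIdeal (R ⧸ Ideal.span ({x 0} : Set R))).spanFinrank := by
      exact_mod_cast h4
    have hkd : k = d := by omega
    have hreg : IsRegularLocalRing (R ⧸ Ideal.span ({x 0} : Set R)) := by
      apply IsRegularLocalRing.of_spanFinrank_maximalIdeal_le
      rw [hk]
      have : (maximalIdeal (R ⧸ Ideal.span ({x 0} : Set R))).spanFinrank ≤ k := by omega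
      exact_mod_cast this
    have hdim' : ringKrullDim (R ⧸ Ideal.span ({x 0} : Set R)) = d := by rw [hk, hkd]
    have hdomain : IsDomain R := isDomain_of_isRegularLocalRing R
    have hne : x 0 ≠ 0 := by
      intro h0
      have hbot : Ideal.span ({x 0} : Set R) = ⊥ := by rw [h0]; simp
      have e : (R ⧸ Ideal.span ({x 0} : Set R)) ≃+* R :=
        (Ideal.quotEquivOfEq hbot).trans (RingEquiv.quotientBot R)
      have := ringKrullDim_eq_of_ringEquiv e
      rw [hdim', hd] at this
      have : d = d + 1 := by exact_mod_cast this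
      omega
    have hsreg : IsSMulRegular R (x 0) :=
      Module.Flat.isSMulRegular_of_nonZeroDivisors (mem_nonZeroDivisors_of_ne_zero hne)
    rw [List.ofFn_succ, isRegular_cons_iff_quotient]
    refine ⟨hsreg, ?_⟩
    rw [List.map_ofFn]
    exact ih (R ⧸ Ideal.span ({x 0} : Set R)) hdim' _ hmax

/-- In a regular local ring of dimension `d`, any `d` generators of the maximal ideal form a
regular sequence. -/
theorem isRegular_ofFn_of_span_eq_maximalIdeal [IsRegularLocalRing R] (d : ℕ)
    (hd : ringKrullDim R = d) (x : Fin d → R)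
    (hx : Ideal.span (Set.range x) = maximalIdeal R) : IsRegular R (List.ofFn x) :=
  isRegular_ofFn_aux d R hd x hx

end Groth.Agent.Lib.Helper85
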