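import Groth.Agent.Lib.Helper85.KrullAkizuki

/-!
# Krull–Akizuki for rings between `R` and a finite extension of `Frac R` (helper85)
-/

set_option autoImplicit false
set_option linter.unusedSectionVars false
set_option linter.style.haveILetI false
universe u v w₁ w₂

namespace Groth.Agent.Lib.Helper85.KrullAkizuki

variable (R : Type u) [CommRing R] [IsDomain R] (K : Type w₁) (L : Type w₂) [Field K] [Field L]
  [Algebra R K] [IsFractionRing R K] [Algebra K L] [FiniteDimensional K L] [Algebra R L]
  [IsScalarTower R K L] (A : Type v) [CommRing A] [Algebra R A] [Algebra A L]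
  [IsScalarTower R A L] (hA : Function.Injective (algebraMap A L))

include K in
theorem sandwich_injective : Function.Injective (algebraMap R L) := by
  rw [IsScalarTower.algebraMap_eq R K L]
  exact (algebraMap K L).injective.comp (IsFractionRing.injective R K)

theorem sandwich_smul (c : R) (x : A) :
    algebraMap A L (c • x) = algebraMap R L c * algebraMap A L x := by
  rw [Algebra.smul_def, map_mul, ← IsScalarTower.algebraMap_apply]

include K L hA in
theorem sandwich_cancel : ∀ c : R, c ≠ 0 → ∀ x : A, c • x = 0 → x = 0 := by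
  intro c hc x hx
  apply hA
  have h := congrArg (algebraMap A L) hx
  rw [sandwich_smul R L A, map_zero, mul_eq_zero] at h
  rcases h with h | h
  · exact absurd (sandwich_injective R K L (by rw [h, map_zero])) hc
  · rw [h, map_zero]

include K L hA in
theorem sandwich_alg : ∀ b : A, b ≠ 0 → ∃ a : R, a ≠ 0 ∧ b ∣ algebraMap R A a := by
  have : IsDomain A := hA.isDomain (algebraMap A L)
  have : Algebra.IsAlgebraic R L :=
    (IsFractionRing.comap_isAlgebraic_iff (A := R) (K := K) (C := L)).mpr inferInstance
  intro b hb
  have h1 : IsAlgebraic R (algebraMap A L b) := Algebra.IsAlgebraic.isAlgebraic _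
  have h2 : IsAlgebraic R b := (isAlgebraic_algebraMap_iff hA).mp h1
  exact h2.exists_nonzero_dvd (mem_nonZeroDivisors_of_ne_zero hb)

include K L hA in
theorem sandwich_rank : ∃ E : Submodule R A, E.FG ∧ ∀ t : A, ∃ c : R, c ≠ 0 ∧ c • t ∈ E := by
  classical
  have hVfg : (Submodule.span K (Set.range (algebraMap A L))).FG := IsNoetherian.noetherian _
  obtain ⟨s', hs'sub, hs'span⟩ := (Submodule.fg_span_iff_fg_span_finset_subset _).mp hVfg
  set E : Submodule R A := Submodule.span R (algebraMap A L ⁻¹' (s' : Set L)) with hEdef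
  have hEfg : E.FG :=
    Submodule.fg_span (Set.Finite.preimage hA.injOn s'.finite_toSet)
  let S : Submodule K L :=
    { carrier := {x | ∃ c : R, c ≠ 0 ∧ ∃ e ∈ E, algebraMap R L c * x = algebraMap A L e}
      zero_mem' := ⟨1, one_ne_zero, 0, E.zero_mem, by simp⟩
      add_mem' := by
        rintro x₁ x₂ ⟨c₁, hc₁, e₁, he₁, h₁⟩ ⟨c₂, hc₂, e₂, he₂, h₂⟩
        refine ⟨c₁ * c₂, mul_ne_zero hc₁ hc₂, c₂ • e₁ + c₁ • e₂,
          E.add_mem (E.smul_mem _ he₁) (E.smul_mem _ he₂), ?_⟩
        rw [map_add, sandwich_smul R L A, sandwich_smul R L A, ← h₁, ← h₂, map_mul]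
        ring
      smul_mem' := by
        rintro k x ⟨c, hc, e, he, h⟩
        obtain ⟨r, d, hd, rfl⟩ := IsFractionRing.div_surjective R k
        have hd0 : d ≠ 0 := nonZeroDivisors.ne_zero hd
        have hdK : algebraMap R K d ≠ 0 := by
          intro h0
          exact hd0 (IsFractionRing.injective R K (by rw [h0, map_zero]))
        refine ⟨c * d, mul_ne_zero hc hd0, r • e, E.smul_mem _ he, ?_⟩
        rw [sandwich_smul R L A, ← h, Algebra.smul_def, map_mul,
          IsScalarTower.algebraMap_apply R K L d, IsScalarTower.algebraMap_apply R K L r, map_div₀]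
        have hdL : algebraMap K L (algebraMap R K d) ≠ 0 := by
          intro h0
          exact hdK ((algebraMap K L).injective (by rw [h0, map_zero]))
        field_simp }
  have hS : Submodule.span K (Set.range (algebraMap A L)) ≤ S := by
    rw [hs'span, Submodule.span_le]
    intro x hx
    obtain ⟨y, rfl⟩ := hs'sub hx
    exact ⟨1, one_ne_zero, y, Submodule.subset_span hx, by simp⟩
  refine ⟨E, hEfg, fun t => ?_⟩
  obtain ⟨c, hc, e, he, h⟩ := hS (Submodule.subset_span ⟨t, rfl⟩)
  refine ⟨c, hc, ?_⟩
  have : c • t = e := hA (by rw [sandwich_smul R L A, h])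
  rw [this]
  exact he

include K L hA in
/-- Krull–Akizuki: a ring between a one-dimensional Noetherian domain and a finite extension of its
fraction field is Noetherian -/
theorem sandwich_isNoetherianRing [IsNoetherianRing R] [Ring.KrullDimLE 1 R] :
    IsNoetherianRing A := by
  obtain ⟨E, hE, hrank⟩ := sandwich_rank R K L A hA
  exact isNoetherianRing (sandwich_cancel R K L A hA) E hE hrank (sandwich_alg R K L A hA)

include K L hA in
/-- Krull–Akizuki: quotients by nonzero elements of `R` are finite over `R` -/
theorem sandwich_finite_quotient [IsNoetherianRing R] [Ring.KrullDimLE 1 R] {a : R} (ha : a ≠ 0) :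
    Module.Finite R (A ⧸ (Ideal.span {algebraMap R A a} : Ideal A)) := by
  obtain ⟨E, hE, hrank⟩ := sandwich_rank R K L A hA
  exact finite_quotient ha (sandwich_cancel R K L A hA) E hE hrank

section Artinian

variable {R' : Type u} [CommRing R'] [IsDomain R'] [IsNoetherianRing R'] [Ring.KrullDimLE 1 R']

/-- a finite module over a one-dimensional Noetherian domain killed by a nonzero element is
Artinian -/
theorem isArtinian_of_finite_of_smul_eq_zero {M : Type v} [AddCommGroup M] [Module R' M]
    [Module.Finite R' M] {a : R'} (ha : a ≠ 0) (hM : ∀ m : M, a • m = 0) : IsArtinian R' M := by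
  have htors : Module.IsTorsionBySet R' M ((Ideal.span {a} : Ideal R') : Set R') :=
    (Module.isTorsionBySet_span_singleton_iff a).mpr fun m => hM m
  letI : Module (R' ⧸ (Ideal.span {a} : Ideal R')) M := htors.module
  haveI : IsScalarTower R' (R' ⧸ (Ideal.span {a} : Ideal R')) M := htors.isScalarTower
  haveI : IsArtinianRing (R' ⧸ (Ideal.span {a} : Ideal R')) :=
    isArtinianRing_quotient_span_singleton ha
  haveI : Module.Finite (R' ⧸ (Ideal.span {a} : Ideal R')) M :=
    Module.Finite.of_restrictScalars_finite R' _ _
  haveI : IsArtinian (R' ⧸ (Ideal.span {a} : Ideal R')) M := inferInstance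
  exact isArtinian_of_surjective_algebraMap (R := R' ⧸ (Ideal.span {a} : Ideal R')) (M := M)
    (S := R') Ideal.Quotient.mk_surjective

end Artinian

include K L hA in
/-- Krull–Akizuki: quotients by nonzero elements of `R` are Artinian rings -/
theorem sandwich_isArtinianRing_quotient [IsNoetherianRing R] [Ring.KrullDimLE 1 R] {a : R}
    (ha : a ≠ 0) : IsArtinianRing (A ⧸ (Ideal.span {algebraMap R A a} : Ideal A)) := by
  haveI := sandwich_finite_quotient R K L A hA ha
  have hM : ∀ m : A ⧸ (Ideal.span {algebraMap R A a} : Ideal A), a • m = 0 := by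
    intro m
    obtain ⟨b, rfl⟩ := Ideal.Quotient.mk_surjective m
    have h1 : a • (Ideal.Quotient.mk (Ideal.span {algebraMap R A a} : Ideal A)) b
        = Ideal.Quotient.mk (Ideal.span {algebraMap R A a} : Ideal A) (algebraMap R A a * b) := by
      rw [← Algebra.smul_def]
      rfl
    rw [h1, Ideal.Quotient.eq_zero_iff_mem]
    exact Ideal.mul_mem_right _ _ (Ideal.subset_span rfl)
  haveI : IsArtinian R (A ⧸ (Ideal.span {algebraMap R A a} : Ideal A)) :=
    isArtinian_of_finite_of_smul_eq_zero ha hM
  exact isArtinian_of_tower R inferInstance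

end Groth.Agent.Lib.Helper85.KrullAkizuki
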