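import Groth.Agent.Lib.Helper85.RegularSeq
import Groth.Agent.Lib.Helper85.RegularGens
import Groth.Agent.S0560

/-!
# Ideals with regular quotient in a regular local ring are generated by regular sequences,
and conversely (helper85)
-/

set_option autoImplicit false
universe u

namespace Groth.Agent.Lib.Helper85

open IsLocalRing RingTheory.Sequence

theorem exists_regular_seq_aux : ∀ (d : ℕ) (R : Type u) [CommRing R] [IsRegularLocalRing R],
    (maximalIdeal R).spanFinrank = d → ∀ (I : Ideal R), IsRegularLocalRing (R ⧸ I) →
      ∃ rs : List R, IsRegular R rs ∧ Ideal.ofList rs = I := by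
  intro d
  induction d with
  | zero =>
    intro R _ _ h0 I hreg
    have hbot : maximalIdeal R = ⊥ :=
      (Submodule.spanFinrank_eq_zero_iff_eq_bot (maximalIdeal R).fg_of_isNoetherianRing).mp h0
    have hIm : I ≤ maximalIdeal R := le_maximalIdeal_of_quotient_isLocalRing I
    rw [hbot] at hIm
    refine ⟨[], IsRegular.nil R R, ?_⟩
    rw [le_bot_iff.mp hIm]; simp
  | succ e ih =>
    intro R _ _ hd I hreg
    have hIm : I ≤ maximalIdeal R := le_maximalIdeal_of_quotient_isLocalRing I
    by_cases hcase : I ≤ maximalIdeal R ^ 2
    · have hI0 := eq_bot_of_le_sq_of_quotient_regular I hreg hcase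
      refine ⟨[], IsRegular.nil R R, ?_⟩
      rw [hI0]; simp
    · obtain ⟨y, hyI, hy2⟩ := Set.not_subset.mp hcase
      have hym : y ∈ maximalIdeal R := hIm hyI
      obtain ⟨hreg', hdim⟩ := isRegularLocalRing_quotient_span_singleton y hym hy2
      have hspan : Ideal.span ({y} : Set R) ≤ I := (Ideal.span_singleton_le_iff_mem _).mpr hyI
      have hreg'' : IsRegularLocalRing
          ((R ⧸ Ideal.span ({y} : Set R)) ⧸ I.map (Ideal.Quotient.mk (Ideal.span ({y} : Set R)))) :=
        IsRegularLocalRing.of_ringEquiv (DoubleQuot.quotQuotEquivQuotOfLE hspan).symm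
      obtain ⟨rs', hrs', hI'⟩ := ih (R ⧸ Ideal.span ({y} : Set R)) (by omega)
        (I.map (Ideal.Quotient.mk (Ideal.span ({y} : Set R)))) hreg''
      have hsurj : Function.Surjective (Ideal.Quotient.mk (Ideal.span ({y} : Set R))) :=
        Ideal.Quotient.mk_surjective
      have hmap : (rs'.map (Function.surjInv hsurj)).map
          (Ideal.Quotient.mk (Ideal.span ({y} : Set R))) = rs' := by
        rw [List.map_map]
        conv_rhs => rw [← List.map_id rs']
        apply List.map_congr_left
        intro a _
        exact Function.surjInv_eq hsurj a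
      have hdomain : IsDomain R := isDomain_of_isRegularLocalRing R
      have hy0 : y ≠ 0 := by
        rintro rfl
        exact hy2 (Ideal.zero_mem _)
      refine ⟨y :: rs'.map (Function.surjInv hsurj), ?_, ?_⟩
      · rw [isRegular_cons_iff_quotient, hmap]
        exact ⟨Module.Flat.isSMulRegular_of_nonZeroDivisors (mem_nonZeroDivisors_of_ne_zero hy0),
          hrs'⟩
      · rw [Ideal.ofList_cons]
        have h1 : (Ideal.ofList (rs'.map (Function.surjInv hsurj))).map
            (Ideal.Quotient.mk (Ideal.span ({y} : Set R))) =
            I.map (Ideal.Quotient.mk (Ideal.span ({y} : Set R))) := by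
          rw [Ideal.map_ofList, hmap, hI']
        have := sup_eq_sup_of_map_mk_eq _ _ _ h1
        rw [sup_comm, this]
        exact sup_eq_left.mpr hspan

/-- If `R` and `R ⧸ I` are regular local rings then `I` is generated by a regular sequence. -/
theorem exists_regular_seq_of_quotient_regular {R : Type u} [CommRing R] [IsRegularLocalRing R]
    (I : Ideal R) (hreg : IsRegularLocalRing (R ⧸ I)) :
    ∃ rs : List R, IsRegular R rs ∧ Ideal.ofList rs = I :=
  exists_regular_seq_aux _ R rfl I hreg

theorem isRegularLocalRing_of_regular_seq_aux : ∀ (n : ℕ) (A : Type u) [CommRing A] [IsLocalRing A]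
    [IsNoetherianRing A] (rs : List A), rs.length = n → IsRegular A rs →
      IsRegularLocalRing (A ⧸ Ideal.ofList rs) → IsRegularLocalRing A := by
  intro n
  induction n with
  | zero =>
    intro A _ _ _ rs hlen _ hq
    have : rs = [] := List.length_eq_zero_iff.mp hlen
    subst this
    have hbot : Ideal.ofList ([] : List A) = ⊥ := Ideal.ofList_nil
    exact IsRegularLocalRing.of_ringEquiv
      ((Ideal.quotEquivOfEq hbot).trans (RingEquiv.quotientBot A))
  | succ n ih =>
    intro A _ _ _ rs hlen hreg hq
    match rs, hlen with
    | r :: rs', hlen =>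
      have hlen' : rs'.length = n := by simpa using hlen
      rw [isRegular_cons_iff_quotient] at hreg
      obtain ⟨hr, hrs'⟩ := hreg
      have hne : Ideal.ofList (r :: rs') ≠ ⊤ := by
        intro h
        have : Nontrivial (A ⧸ Ideal.ofList (r :: rs')) := inferInstance
        exact (Ideal.Quotient.nontrivial_iff.mp this) h
      have hrm : r ∈ maximalIdeal A := by
        have hle : Ideal.ofList (r :: rs') ≤ maximalIdeal A := IsLocalRing.le_maximalIdeal hne
        apply hle
        rw [Ideal.ofList_cons]
        exact Ideal.mem_sup_left (Ideal.subset_span rfl)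
      have hloc : IsLocalRing (A ⧸ Ideal.span ({r} : Set A)) :=
        isLocalRing_quotient _ (span_singleton_ne_top r hrm)
      have hq' : IsRegularLocalRing ((A ⧸ Ideal.span ({r} : Set A)) ⧸
          Ideal.ofList (rs'.map (Ideal.Quotient.mk (Ideal.span ({r} : Set A))))) := by
        rw [← Ideal.map_ofList]
        have e := DoubleQuot.quotQuotEquivQuotSup (Ideal.span ({r} : Set A)) (Ideal.ofList rs')
        have heq : Ideal.span ({r} : Set A) ⊔ Ideal.ofList rs' = Ideal.ofList (r :: rs') := by
          rw [Ideal.ofList_cons]
        exact IsRegularLocalRing.of_ringEquiv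
          ((e.trans (Ideal.quotEquivOfEq heq)).symm)
      have hA' : IsRegularLocalRing (A ⧸ Ideal.span ({r} : Set A)) :=
        ih (A ⧸ Ideal.span ({r} : Set A)) _ (by simpa using hlen') hrs' hq'
      have hnzd : r ∈ nonZeroDivisors A := by
        rw [mem_nonZeroDivisors_iff_right]
        intro x hx
        apply hr
        simpa [mul_comm] using hx
      exact Groth.Agent.S0560.result A r hrm hnzd

/-- If `A ⧸ (rs)` is a regular local ring for a regular sequence `rs` of the Noetherian local ring
`A`, then `A` is a regular local ring. -/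
theorem isRegularLocalRing_of_regular_seq {A : Type u} [CommRing A] [IsLocalRing A]
    [IsNoetherianRing A] (rs : List A) (hreg : IsRegular A rs)
    (hq : IsRegularLocalRing (A ⧸ Ideal.ofList rs)) : IsRegularLocalRing A :=
  isRegularLocalRing_of_regular_seq_aux _ A rs rfl hreg hq

end Groth.Agent.Lib.Helper85
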