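import Groth.Agent.Lib.Helper85.EndAlgHomInner
import Mathlib.Algebra.Azumaya.Basic
import Mathlib.RingTheory.TensorProduct.Maps

/-!
# Skolem–Noether for Azumaya algebras over a local ring (helper85)
-/

set_option autoImplicit false
universe u v

namespace Groth.Agent.Lib.Helper85

open scoped TensorProduct
open MulOpposite

variable (R : Type u) [CommRing R] [IsLocalRing R] (A : Type v) [Ring A] [Algebra R A]
  [IsAzumaya R A]

omit [IsLocalRing R] in
include R in
theorem nontrivial_of_isAzumaya_local [Nontrivial R] : Nontrivial A := by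
  by_contra h
  rw [not_nontrivial_iff_subsingleton] at h
  have : (1 : R) = 0 := FaithfulSMul.eq_of_smul_eq_smul (α := A) fun a => Subsingleton.elim _ _
  exact one_ne_zero this

/-- Every `R`-algebra endomorphism of an Azumaya algebra over a local ring is inner. -/
theorem exists_unit_conj_of_algHom (u : A →ₐ[R] A) :
    ∃ a : Aˣ, ∀ x : A, u x = (a : A) * x * (a⁻¹ : Aˣ) := by
  have hfree : Module.Free R A := Module.free_of_flat_of_isLocalRing
  have hnt : Nontrivial A := nontrivial_of_isAzumaya_local R A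
  let e : A ⊗[R] Aᵐᵒᵖ ≃ₐ[R] Module.End R A :=
    AlgEquiv.ofBijective (AlgHom.mulLeftRight R A) IsAzumaya.bij
  have he : ∀ t, e t = AlgHom.mulLeftRight R A t := fun _ => rfl
  let ρ : Module.End R A →ₐ[R] Module.End R A :=
    ((e : A ⊗[R] Aᵐᵒᵖ →ₐ[R] Module.End R A).comp
      (Algebra.TensorProduct.map u (AlgHom.id R Aᵐᵒᵖ))).comp
      (e.symm : Module.End R A →ₐ[R] A ⊗[R] Aᵐᵒᵖ)
  have hρ : ∀ t, ρ (AlgHom.mulLeftRight R A t) =
      AlgHom.mulLeftRight R A (Algebra.TensorProduct.map u (AlgHom.id R Aᵐᵒᵖ) t) := by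
    intro t
    change e (Algebra.TensorProduct.map u (AlgHom.id R Aᵐᵒᵖ) (e.symm (e t))) = _
    rw [e.symm_apply_apply, he]
  obtain ⟨θ, hθ⟩ := exists_linearEquiv_intertwining ρ
  -- compatibility with left and right multiplications
  have hleft : ∀ a x : A, θ (a * x) = u a * θ x := by
    intro a x
    have h1 := hθ (AlgHom.mulLeftRight R A (a ⊗ₜ (1 : Aᵐᵒᵖ))) x
    rw [hρ, Algebra.TensorProduct.map_tmul, AlgHom.mulLeftRight_apply,
      AlgHom.mulLeftRight_apply] at h1
    simpa using h1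
  have hright : ∀ x b : A, θ (x * b) = θ x * b := by
    intro x b
    have h1 := hθ (AlgHom.mulLeftRight R A ((1 : A) ⊗ₜ (op b))) x
    rw [hρ, Algebra.TensorProduct.map_tmul, AlgHom.mulLeftRight_apply,
      AlgHom.mulLeftRight_apply] at h1
    simpa using h1
  set c : A := θ 1 with hc
  have hθc : ∀ x, θ x = c * x := by
    intro x
    have := hright 1 x
    rwa [one_mul] at this
  have hcomm : ∀ a, c * a = u a * c := by
    intro a
    have := hleft a 1
    rwa [mul_one, hθc] at this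
  obtain ⟨x, hx⟩ := θ.surjective 1
  have hcx : c * x = 1 := by rw [← hθc, hx]
  have hxc : x * c = 1 := by
    apply θ.injective
    rw [hθc, hθc, ← mul_assoc, hcx, one_mul, mul_one]
  refine ⟨⟨c, x, hcx, hxc⟩, fun y => ?_⟩
  change u y = c * y * x
  rw [hcomm, mul_assoc, hcx, mul_one]

/-- The conjugating unit is unique up to a unit of the base. -/
theorem exists_unit_smul_of_conj_eq (a a' : Aˣ)
    (h : ∀ x : A, (a : A) * x * (a⁻¹ : Aˣ) = (a' : A) * x * (a'⁻¹ : Aˣ)) :
    ∃ c : Rˣ, (a' : A) = algebraMap R A (c : R) * (a : A) := by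
  have hfree : Module.Free R A := Module.free_of_flat_of_isLocalRing
  have hcentral : Algebra.IsCentral R A := inferInstance
  -- `z = a⁻¹ a'` is central
  have hz : ∀ (b b' : Aˣ), (∀ x : A, (b : A) * x * (b⁻¹ : Aˣ) = (b' : A) * x * (b'⁻¹ : Aˣ)) →
      ∃ r : R, algebraMap R A r = ((b⁻¹ * b' : Aˣ) : A) := by
    intro b b' hb
    have hmem : ((b⁻¹ * b' : Aˣ) : A) ∈ Subalgebra.center R A := by
      rw [Subalgebra.mem_center_iff]
      intro x
      have h1 := hb x
      -- x * (b⁻¹ b') = (b⁻¹ b') * x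
      have h2 : x * ((b⁻¹ : Aˣ) : A) * (b' : A) = ((b⁻¹ : Aˣ) : A) * (b' : A) * x := by
        calc x * ((b⁻¹ : Aˣ) : A) * (b' : A)
            = ((b⁻¹ : Aˣ) : A) * ((b : A) * x * ((b⁻¹ : Aˣ) : A)) * (b' : A) := by
              simp [mul_assoc]
          _ = ((b⁻¹ : Aˣ) : A) * ((b' : A) * x * ((b'⁻¹ : Aˣ) : A)) * (b' : A) := by rw [h1]
          _ = ((b⁻¹ : Aˣ) : A) * (b' : A) * x := by simp [mul_assoc]
      simpa [Units.val_mul, mul_assoc] using h2
    have := hcentral.out hmem
    rw [Algebra.mem_bot] at this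
    exact this
  obtain ⟨r, hr⟩ := hz a a' h
  obtain ⟨r', hr'⟩ := hz a' a (fun x => (h x).symm)
  have hinj : Function.Injective (algebraMap R A) := FaithfulSMul.algebraMap_injective R A
  have hrr' : r * r' = 1 := by
    apply hinj
    rw [map_mul, hr, hr', map_one, ← Units.val_mul]
    simp
  refine ⟨⟨r, r', hrr', by rw [mul_comm]; exact hrr'⟩, ?_⟩
  change (a' : A) = algebraMap R A r * (a : A)
  rw [Algebra.commutes, hr, Units.val_mul, ← mul_assoc, Units.mul_inv, one_mul]

end Groth.Agent.Lib.Helper85
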