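import Groth.Agent.Lib.Helper1.CSA.TensorSimple
import Mathlib.Algebra.Azumaya.Basic
import Mathlib.LinearAlgebra.FreeModule.Finite.Matrix
import Mathlib.LinearAlgebra.Dual.Lemmas
import Mathlib.LinearAlgebra.FiniteDimensional.Lemmas

/-!
# Azumaya algebras over a field are exactly the finite-dimensional central simple algebras
(helper85)
-/

set_option autoImplicit false
universe u v

namespace Groth.Agent.Lib.Helper85

open scoped TensorProduct
open MulOpposite

variable (k : Type u) [Field k] (A : Type v) [Ring A] [Algebra k A]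

/-- A finite-dimensional central simple algebra over a field is Azumaya. -/
theorem isAzumaya_of_isCentral_of_isSimpleRing [Algebra.IsCentral k A] [IsSimpleRing A]
    [FiniteDimensional k A] : IsAzumaya k A := by
  have hfinop : FiniteDimensional k Aᵐᵒᵖ := Module.Finite.equiv (MulOpposite.opLinearEquiv k)
  have hsimple : IsSimpleRing (A ⊗[k] Aᵐᵒᵖ) :=
    Groth.Agent.Lib.Helper1.isSimpleRing_tensor_of_isCentral_of_isSimpleRing A Aᵐᵒᵖ
  have hinj : Function.Injective (AlgHom.mulLeftRight k A) :=
    RingHom.injective (AlgHom.mulLeftRight k A).toRingHom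
  have hrank : Module.finrank k (A ⊗[k] Aᵐᵒᵖ) = Module.finrank k (Module.End k A) := by
    rw [Module.finrank_tensorProduct, Module.finrank_linearMap,
      (MulOpposite.opLinearEquiv k : A ≃ₗ[k] Aᵐᵒᵖ).finrank_eq]
  have hbij : Function.Bijective (AlgHom.mulLeftRight k A) := by
    refine ⟨hinj, ?_⟩
    exact (LinearMap.injective_iff_surjective_of_finrank_eq_finrank
      (f := (AlgHom.mulLeftRight k A).toLinearMap) hrank).mp hinj
  exact { bij := hbij }

/-- An Azumaya algebra over a field is a simple ring. -/
theorem isSimpleRing_of_isAzumaya [IsAzumaya k A] : IsSimpleRing A := by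
  have hnt : Nontrivial A := by
    by_contra h
    rw [not_nontrivial_iff_subsingleton] at h
    have : (1 : k) = 0 := FaithfulSMul.eq_of_smul_eq_smul (α := A) fun a => Subsingleton.elim _ _
    exact one_ne_zero this
  apply IsSimpleRing.of_eq_bot_or_eq_top
  intro I
  by_cases hI : I = ⊥
  · exact Or.inl hI
  right
  -- a nonzero element of `I`
  obtain ⟨x, hxI, hx0⟩ : ∃ x ∈ I, x ≠ 0 := by
    by_contra hcon
    push Not at hcon
    apply hI
    rw [eq_bot_iff]
    intro y hy
    rw [TwoSidedIdeal.mem_bot]
    exact hcon y hy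
  -- `I` is stable under the image of `mulLeftRight`
  have hstab : ∀ t : A ⊗[k] Aᵐᵒᵖ, AlgHom.mulLeftRight k A t x ∈ I := by
    intro t
    induction t using TensorProduct.induction_on with
    | zero => rw [map_zero]; exact I.zero_mem
    | add t s ht hs => rw [map_add]; exact I.add_mem ht hs
    | tmul a b =>
      rw [AlgHom.mulLeftRight_apply]
      exact I.mul_mem_right _ _ (I.mul_mem_left _ _ hxI)
  -- a functional with `φ x = 1`
  obtain ⟨φ, hφ⟩ : ∃ φ : Module.Dual k A, φ x = 1 :=
    Module.Projective.exists_dual_eq_one k hx0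
  rw [eq_top_iff]
  intro y _
  obtain ⟨t, ht⟩ := (IsAzumaya.bij (R := k) (A := A)).2 (φ.smulRight y)
  have := hstab t
  rw [ht, LinearMap.smulRight_apply, hφ, one_smul] at this
  exact this

end Groth.Agent.Lib.Helper85
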