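import Groth.Agent.Lib.Helper85.AzumayaBaseChange
import Mathlib.RingTheory.TensorProduct.Finite
import Mathlib.LinearAlgebra.Dual.Lemmas
import Mathlib.RingTheory.Nilpotent.Lemmas
import Mathlib.RingTheory.Nakayama
import Mathlib.LinearAlgebra.TensorProduct.RightExactness

/-!
# Fibrewise criteria: bijectivity, faithfulness and the Azumaya property can be checked on a
family of base changes that detects vanishing of finite modules (helper85)
-/

set_option autoImplicit false
universe u v w t

namespace Groth.Agent.Lib.Helper85

open scoped TensorProduct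
open MulOpposite

variable (R : Type u) [CommRing R] {ι : Type t} (S : ι → Type v) [∀ i, CommRing (S i)]
  [∀ i, Algebra R (S i)]

/-- Bijectivity of a linear map from a finite module to a finite projective module can be checked
on a family of base changes which detects vanishing of finite modules. -/
theorem bijective_of_forall_baseChange_bijective
    (hV : ∀ (M : Type w) [AddCommGroup M] [Module R M] [Module.Finite R M],
      (∀ i, Subsingleton (S i ⊗[R] M)) → Subsingleton M)
    {P : Type w} [AddCommGroup P] [Module R P] [Module.Finite R P]
    {P' : Type w} [AddCommGroup P'] [Module R P'] [Module.Finite R P'] [Module.Projective R P']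
    (φ : P →ₗ[R] P') (h : ∀ i, Function.Bijective (φ.baseChange (S i))) :
    Function.Bijective φ := by
  have hbc : ∀ (T : Type v) [CommRing T] [Algebra R T]
      (X Y : Type w) [AddCommGroup X] [Module R X] [AddCommGroup Y] [Module R Y]
      (g : X →ₗ[R] Y) (z : T ⊗[R] X), g.baseChange T z = g.lTensor T z :=
    fun _ _ _ _ _ _ _ _ _ _ _ => rfl
  -- surjectivity
  have hsurj : Function.Surjective φ := by
    rw [← LinearMap.range_eq_top]
    have hC : ∀ i, Subsingleton (S i ⊗[R] (P' ⧸ LinearMap.range φ)) := by
      intro i
      refine ⟨fun a b => ?_⟩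
      have h0 : ∀ z : S i ⊗[R] (P' ⧸ LinearMap.range φ), z = 0 := by
        intro z
        obtain ⟨w, rfl⟩ := LinearMap.lTensor_surjective (S i) (LinearMap.range φ).mkQ_surjective z
        obtain ⟨v, rfl⟩ := (h i).2 w
        rw [hbc, ← LinearMap.comp_apply, ← LinearMap.lTensor_comp]
        have : (LinearMap.range φ).mkQ ∘ₗ φ = 0 := by
          ext x
          simp
        rw [this, LinearMap.lTensor_zero, LinearMap.zero_apply]
      rw [h0 a, h0 b]
    have := hV (P' ⧸ LinearMap.range φ) hC
    exact Submodule.Quotient.subsingleton_iff.mp this
  refine ⟨?_, hsurj⟩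
  -- injectivity
  obtain ⟨σ, hσ⟩ := Module.projective_lifting_property φ LinearMap.id hsurj
  have hσ' : ∀ y, φ (σ y) = y := fun y => LinearMap.congr_fun hσ y
  let π : P →ₗ[R] P := LinearMap.id - σ ∘ₗ φ
  have hφπ : ∀ p, φ (π p) = 0 := by
    intro p
    simp [π, hσ']
  have hππ : ∀ p, π (π p) = π p := by
    intro p
    change π p - σ (φ (π p)) = π p
    rw [hφπ, map_zero, sub_zero]
  have hπS : ∀ i z, π.baseChange (S i) z = 0 := by
    intro i z
    have h1 : (σ.baseChange (S i)) ((φ.baseChange (S i)) z) = z := by
      apply (h i).1
      rw [← LinearMap.comp_apply, ← LinearMap.comp_apply, ← LinearMap.baseChange_comp, hσ,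
        LinearMap.baseChange_id, LinearMap.id_comp]
    have h2 : π.baseChange (S i) =
        LinearMap.id - (σ.baseChange (S i)) ∘ₗ (φ.baseChange (S i)) := by
      rw [← LinearMap.baseChange_comp, ← LinearMap.baseChange_id, ← LinearMap.baseChange_sub]
    rw [h2, LinearMap.sub_apply, LinearMap.id_apply, LinearMap.comp_apply, h1, sub_self]
  have hK : ∀ i, Subsingleton (S i ⊗[R] LinearMap.range π) := by
    intro i
    refine ⟨fun a b => ?_⟩
    have h0 : ∀ z : S i ⊗[R] LinearMap.range π, z = 0 := by
      intro z
      have hid : π.rangeRestrict ∘ₗ (LinearMap.range π).subtype = LinearMap.id := by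
        ext ⟨k, p, rfl⟩
        simp [hππ]
      have hπ : (LinearMap.range π).subtype ∘ₗ π.rangeRestrict = π := by
        ext p; rfl
      have e1 : z = (π.rangeRestrict.baseChange (S i))
          (((LinearMap.range π).subtype.baseChange (S i)) z) := by
        rw [← LinearMap.comp_apply, ← LinearMap.baseChange_comp, hid, LinearMap.baseChange_id,
          LinearMap.id_apply]
      have hcomp : (LinearMap.range π).subtype.baseChange (S i) ∘ₗ
          π.rangeRestrict.baseChange (S i) = π.baseChange (S i) := by
        rw [← LinearMap.baseChange_comp]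
        exact congrArg (LinearMap.baseChange (S i)) hπ
      have e2 : ((LinearMap.range π).subtype.baseChange (S i)) z = 0 := by
        calc ((LinearMap.range π).subtype.baseChange (S i)) z
            = ((LinearMap.range π).subtype.baseChange (S i))
                ((π.rangeRestrict.baseChange (S i))
                (((LinearMap.range π).subtype.baseChange (S i)) z)) := congrArg _ e1
          _ = (π.baseChange (S i)) (((LinearMap.range π).subtype.baseChange (S i)) z) := by
              rw [← LinearMap.comp_apply, hcomp]
          _ = 0 := hπS i _
      rw [e1, e2, map_zero]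
    rw [h0 a, h0 b]
  have hKsub := hV (LinearMap.range π) hK
  intro p p' hpp
  have hp0 : ∀ p, π p = 0 := by
    intro p
    have : (⟨π p, p, rfl⟩ : LinearMap.range π) = 0 := Subsingleton.elim _ _
    exact congrArg Subtype.val this
  have hp : ∀ p, p = σ (φ p) := by
    intro p
    have := hp0 p
    simp only [π, LinearMap.sub_apply, LinearMap.id_apply, LinearMap.comp_apply] at this
    exact sub_eq_zero.mp this
  rw [hp p, hp p', hpp]

variable (B : Type w) [Ring B] [Algebra R B]

/-- Faithfulness of a finite projective module can be checked on a family of base changes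
whose kernels are jointly contained in the nilradical. -/
theorem faithfulSMul_of_forall_baseChange
    (hN : ∀ a : R, (∀ i, algebraMap R (S i) a = 0) → IsNilpotent a)
    [Module.Finite R B] [Module.Projective R B] [∀ i, FaithfulSMul (S i) (S i ⊗[R] B)] :
    FaithfulSMul R B := by
  obtain ⟨n, f, g, -, -, eq⟩ := Module.Finite.exists_comp_eq_id_of_projective R B
  let T : Ideal R := LinearMap.range (contractLeft R B)
  have hle : (⊤ : Submodule R B) ≤ T • (⊤ : Submodule R B) := by
    intro x _
    have hx : x = ∑ i, (g x i) • f (Pi.single i 1) := by
      conv_lhs => rw [← show f (g x) = x from LinearMap.congr_fun eq x]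
      conv_lhs => rw [← Finset.univ_sum_single (g x)]
      rw [map_sum]
      refine Finset.sum_congr rfl fun i _ => ?_
      rw [← map_smul]
      congr 1
      ext j
      simp [Pi.single_apply]
    rw [hx]
    refine Submodule.sum_mem _ fun i _ => Submodule.smul_mem_smul ?_ Submodule.mem_top
    refine ⟨((LinearMap.proj i : (Fin n → R) →ₗ[R] R) ∘ₗ g) ⊗ₜ x, ?_⟩
    simp [contractLeft_apply]
  obtain ⟨a, ha, ha0⟩ := Submodule.exists_sub_one_mem_and_smul_eq_zero_of_fg_of_le_smul T
    (⊤ : Submodule R B) Module.Finite.fg_top hle
  -- `T` annihilates the annihilator of `B`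
  have hTann : ∀ t ∈ T, a * t = 0 := by
    rintro _ ⟨t, rfl⟩
    induction t using TensorProduct.induction_on with
    | zero => simp
    | add x y hx hy => rw [map_add, mul_add, hx, hy, add_zero]
    | tmul φ b =>
      rw [contractLeft_apply, ← smul_eq_mul, ← map_smul, ha0 b Submodule.mem_top, map_zero]
  -- `a` is idempotent
  have hidem : a * a = a := by
    have := hTann (a - 1) ha
    rw [mul_sub, mul_one, sub_eq_zero] at this
    exact this
  -- the image of `a` in `S i` kills `S i ⊗ B`, hence vanishes
  have haS : ∀ i, algebraMap R (S i) a = 0 := by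
    intro i
    apply FaithfulSMul.eq_of_smul_eq_smul (α := S i ⊗[R] B)
    intro x
    induction x using TensorProduct.induction_on with
    | zero => simp
    | add x y hx hy => rw [smul_add, smul_add, hx, hy]
    | tmul s b =>
      rw [algebraMap_smul, ← TensorProduct.tmul_smul, ha0 b Submodule.mem_top, zero_smul,
        TensorProduct.tmul_zero]
  have hanil : IsNilpotent a := hN a haS
  have ha00 : a = 0 := by
    obtain ⟨k, hk⟩ := hanil
    have hpow : ∀ m : ℕ, a ^ (m + 1) = a := by
      intro m
      induction m with
      | zero => simp
      | succ m ih => rw [pow_succ, ih, hidem]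
    rcases k with _ | k
    · have h10 : (1 : R) = 0 := by simpa using hk
      rw [← mul_one a, h10, mul_zero]
    · rw [← hpow k, hk]
  have h1T : (1 : R) ∈ T := by
    rw [ha00, zero_sub] at ha
    simpa using T.neg_mem ha
  obtain ⟨t, ht⟩ := h1T
  refine ⟨fun {r r'} hrr => ?_⟩
  have key : ∀ t : Module.Dual R B ⊗[R] B, r * contractLeft R B t = r' * contractLeft R B t := by
    intro t
    induction t using TensorProduct.induction_on with
    | zero => simp
    | add x y hx hy => simp only [map_add, mul_add, hx, hy]
    | tmul φ b =>
      rw [contractLeft_apply, ← smul_eq_mul, ← smul_eq_mul, ← map_smul, ← map_smul, hrr b]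
  have := key t
  rwa [ht, mul_one, mul_one] at this

/-- The Azumaya property of a faithful finite projective algebra can be checked on a family of
base changes which detects vanishing of finite modules. -/
theorem isAzumaya_of_forall_baseChange_of_faithfulSMul
    (hV : ∀ (M : Type w) [AddCommGroup M] [Module R M] [Module.Finite R M],
      (∀ i, Subsingleton (S i ⊗[R] M)) → Subsingleton M)
    [Module.Finite R B] [Module.Projective R B] [FaithfulSMul R B]
    [∀ i, IsAzumaya (S i) (S i ⊗[R] B)] :
    IsAzumaya R B := by
  have hEndfin : Module.Finite R (Module.End R B) := Module.Finite.equiv (dualTensorHomEquiv R B B)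
  have hEndproj : Module.Projective R (Module.End R B) :=
    Module.Projective.of_equiv (dualTensorHomEquiv R B B)
  refine ⟨?_⟩
  have h2 : ∀ i, Function.Bijective ((AlgHom.mulLeftRight R B).toLinearMap.baseChange (S i)) := by
    intro i
    have h1 : Function.Bijective ((AlgHom.mulLeftRight (S i) (S i ⊗[R] B)).toLinearMap ∘ₗ
        (baseChangeReorder R (S i) B).toLinearMap) := by
      rw [LinearMap.coe_comp]
      exact Function.Bijective.comp IsAzumaya.bij (baseChangeReorder R (S i) B).bijective
    rw [mulLeftRight_baseChange_comp, LinearMap.coe_comp] at h1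
    have hT := tensorProduct_bijective_of_finite_projective R (S i) B B
    exact (Function.Bijective.of_comp_iff' hT _).mp h1
  exact bijective_of_forall_baseChange_bijective R S hV (AlgHom.mulLeftRight R B).toLinearMap h2

/-- The Azumaya property of a finite projective algebra can be checked on a family of base
changes which detects vanishing of finite modules and nilpotency of scalars. -/
theorem isAzumaya_of_forall_baseChange
    (hV : ∀ (M : Type w) [AddCommGroup M] [Module R M] [Module.Finite R M],
      (∀ i, Subsingleton (S i ⊗[R] M)) → Subsingleton M)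
    (hN : ∀ a : R, (∀ i, algebraMap R (S i) a = 0) → IsNilpotent a)
    [Module.Finite R B] [Module.Projective R B] [∀ i, IsAzumaya (S i) (S i ⊗[R] B)] :
    IsAzumaya R B := by
  have hfaith := faithfulSMul_of_forall_baseChange R S B hN
  exact isAzumaya_of_forall_baseChange_of_faithfulSMul R S B hV

end Groth.Agent.Lib.Helper85
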