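import Mathlib.Algebra.Module.FinitePresentation
import Mathlib.RingTheory.TensorProduct.Maps
import Mathlib.RingTheory.Finiteness.Projective

/-!
# Base change of `Hom` out of a finite projective module (helper85)

`S ⊗[R] (M →ₗ[R] N) → (S ⊗[R] M →ₗ[S] S ⊗[R] N)` is bijective when `M` is finite projective.
-/

set_option autoImplicit false
universe u v w

namespace Groth.Agent.Lib.Helper85

open scoped TensorProduct

variable (R : Type*) [CommRing R] (S : Type*) [CommRing S] [Algebra R S]
  (M : Type*) [AddCommGroup M] [Module R M] (M' : Type*) [AddCommGroup M'] [Module R M']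
  (N : Type*) [AddCommGroup N] [Module R N]

theorem tensorProduct_bijective_free (ι : Type*) [Finite ι] :
    Function.Bijective (LinearMap.tensorProduct R S (ι → R) N) := by
  have h := Module.isBaseChange_map_of_finite_free (R := R) N S ι
  have : (LinearMap.tensorProduct R S (ι → R) N) = h.equiv.toLinearMap := by
    apply TensorProduct.AlgebraTensorModule.ext
    intro s φ
    simp [LinearMap.tensorProduct, IsBaseChange.equiv_tmul]
  rw [this]
  exact h.equiv.bijective

variable {M M'} in
theorem tensorProduct_naturality (u : M →ₗ[R] M') :
    (LinearMap.tensorProduct R S M N) ∘ₗ (LinearMap.baseChange S (LinearMap.lcomp R N u)) =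
      (LinearMap.lcomp S (S ⊗[R] N) (u.baseChange S)) ∘ₗ LinearMap.tensorProduct R S M' N := by
  apply TensorProduct.AlgebraTensorModule.ext
  intro s φ
  apply TensorProduct.AlgebraTensorModule.ext
  intro s' m
  simp [LinearMap.tensorProduct]

theorem tensorProduct_bijective_of_finite_projective [Module.Finite R M] [Module.Projective R M] :
    Function.Bijective (LinearMap.tensorProduct R S M N) := by
  obtain ⟨n, f, g, -, -, eq⟩ := Module.Finite.exists_comp_eq_id_of_projective R M
  have hF := tensorProduct_bijective_free R S N (Fin n)
  constructor
  · -- injectivity: `T_F ∘ (S ⊗ f^*) = (S ⊗ f)^* ∘ T_M` with the left side injective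
    have hnat := tensorProduct_naturality R S N f
    have hinj : Function.Injective ((LinearMap.tensorProduct R S (Fin n → R) N) ∘ₗ
        (LinearMap.baseChange S (LinearMap.lcomp R N f))) := by
      rw [LinearMap.coe_comp]
      refine hF.1.comp ?_
      apply Function.LeftInverse.injective (g := LinearMap.baseChange S (LinearMap.lcomp R N g))
      intro x
      have : (LinearMap.baseChange S (LinearMap.lcomp R N g)) ∘ₗ
          (LinearMap.baseChange S (LinearMap.lcomp R N f)) = LinearMap.id := by
        rw [← LinearMap.baseChange_comp]
        have : (LinearMap.lcomp R N g) ∘ₗ (LinearMap.lcomp R N f) = LinearMap.id := by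
          ext φ m
          simp only [LinearMap.coe_comp, Function.comp_apply, LinearMap.lcomp_apply,
            LinearMap.id_coe, id_eq]
          exact congrArg φ (LinearMap.congr_fun eq m)
        rw [this, LinearMap.baseChange_id]
      exact LinearMap.congr_fun this x
    rw [hnat, LinearMap.coe_comp] at hinj
    exact Function.Injective.of_comp hinj
  · -- surjectivity: `T_M ∘ (S ⊗ g^*) = (S ⊗ g)^* ∘ T_F` with the right side surjective
    have hnat := tensorProduct_naturality R S N g
    have hsurj : Function.Surjective ((LinearMap.lcomp S (S ⊗[R] N) (g.baseChange S)) ∘ₗ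
        LinearMap.tensorProduct R S (Fin n → R) N) := by
      rw [LinearMap.coe_comp]
      refine Function.Surjective.comp ?_ hF.2
      apply Function.RightInverse.surjective
        (g := LinearMap.lcomp S (S ⊗[R] N) (f.baseChange S))
      intro ψ
      ext m
      simp only [LinearMap.lcomp_apply,
        TensorProduct.AlgebraTensorModule.curry_apply, TensorProduct.curry_apply,
        LinearMap.coe_restrictScalars, LinearMap.baseChange_tmul]
      rw [show f (g m) = m from LinearMap.congr_fun eq m]
    rw [← hnat, LinearMap.coe_comp] at hsurj
    exact Function.Surjective.of_comp hsurj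

end Groth.Agent.Lib.Helper85
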