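import Groth.Agent.Lib.Helper85.Azumaya
import Groth.Agent.Lib.Helper85.HomBaseChange
import Mathlib.LinearAlgebra.TensorProduct.Tower
import Mathlib.RingTheory.Nakayama

set_option autoImplicit false
universe u v w

namespace Groth.Agent.Lib.Helper85

open scoped TensorProduct
open MulOpposite

section BaseChange

variable (R : Type u) [CommRing R] (S : Type v) [CommRing S] [Algebra R S]
  (A : Type w) [Ring A] [Algebra R A]

noncomputable def opBaseChangeEquiv : S ⊗[R] Aᵐᵒᵖ ≃ₗ[S] (S ⊗[R] A)ᵐᵒᵖ :=
  (TensorProduct.AlgebraTensorModule.congr (opLinearEquiv S) (LinearEquiv.refl R Aᵐᵒᵖ)).trans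
    (Algebra.TensorProduct.opAlgEquiv R S S A).toLinearEquiv

theorem opBaseChangeEquiv_tmul (s : S) (a : Aᵐᵒᵖ) :
    opBaseChangeEquiv R S A (s ⊗ₜ a) = op (s ⊗ₜ a.unop) := by
  simp [opBaseChangeEquiv]

noncomputable def baseChangeReorder :
    S ⊗[R] (A ⊗[R] Aᵐᵒᵖ) ≃ₗ[S] (S ⊗[R] A) ⊗[S] (S ⊗[R] A)ᵐᵒᵖ :=
  (TensorProduct.AlgebraTensorModule.distribBaseChange R S A Aᵐᵒᵖ).trans
    (TensorProduct.congr (LinearEquiv.refl S (S ⊗[R] A)) (opBaseChangeEquiv R S A))

theorem mulLeftRight_baseChange_comp :
    (AlgHom.mulLeftRight S (S ⊗[R] A)).toLinearMap ∘ₗ (baseChangeReorder R S A).toLinearMap =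
      (LinearMap.tensorProduct R S A A) ∘ₗ
        ((AlgHom.mulLeftRight R A).toLinearMap.baseChange S) := by
  apply TensorProduct.AlgebraTensorModule.ext
  intro s t
  induction t using TensorProduct.induction_on with
  | zero => simp
  | add x y hx hy => simp only [TensorProduct.tmul_add, map_add, hx, hy]
  | tmul a a' =>
    apply TensorProduct.AlgebraTensorModule.ext
    intro s' x
    simp [baseChangeReorder, opBaseChangeEquiv_tmul, LinearMap.tensorProduct,
      TensorProduct.smul_tmul']

theorem mulLeftRight_baseChange_bijective [IsAzumaya R A] :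
    Function.Bijective (AlgHom.mulLeftRight S (S ⊗[R] A)) := by
  have h1 : Function.Bijective ((AlgHom.mulLeftRight S (S ⊗[R] A)).toLinearMap ∘ₗ
      (baseChangeReorder R S A).toLinearMap) := by
    rw [mulLeftRight_baseChange_comp, LinearMap.coe_comp]
    refine (tensorProduct_bijective_of_finite_projective R S A A).comp ?_
    have hA : Function.Bijective (AlgHom.mulLeftRight R A) := IsAzumaya.bij
    let eA : (A ⊗[R] Aᵐᵒᵖ) ≃ₗ[R] Module.End R A :=
      LinearEquiv.ofBijective (AlgHom.mulLeftRight R A).toLinearMap hA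
    exact (eA.baseChange R S).bijective
  exact (Function.Bijective.of_comp_iff (AlgHom.mulLeftRight S (S ⊗[R] A))
    (baseChangeReorder R S A).bijective).mp h1

end BaseChange

section Faithful

variable (R : Type u) [CommRing R] (S : Type v) [CommRing S] [Algebra R S]
  (M : Type w) [AddCommGroup M] [Module R M]

/-- For a faithful finite projective module, the trace ideal is the unit ideal. -/
theorem exists_contractLeft_eq_one [Module.Finite R M] [Module.Projective R M]
    [FaithfulSMul R M] : ∃ t : Module.Dual R M ⊗[R] M, contractLeft R M t = 1 := by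
  obtain ⟨n, f, g, -, -, eq⟩ := Module.Finite.exists_comp_eq_id_of_projective R M
  let T : Ideal R := LinearMap.range (contractLeft R M)
  have hle : (⊤ : Submodule R M) ≤ T • (⊤ : Submodule R M) := by
    intro x _
    have hx : x = ∑ i, (g x i) • f (Pi.single i 1) := by
      conv_lhs => rw [← show f (g x) = x from LinearMap.congr_fun eq x]
      conv_lhs => rw [← Finset.univ_sum_single (g x)]
      rw [map_sum]
      refine Finset.sum_congr rfl fun i _ => ?_
      rw [← map_smul]
      congr 1
      ext j
      simp [Pi.single_apply]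
    rw [hx]
    refine Submodule.sum_mem _ fun i _ => Submodule.smul_mem_smul ?_ Submodule.mem_top
    refine ⟨((LinearMap.proj i : (Fin n → R) →ₗ[R] R) ∘ₗ g) ⊗ₜ x, ?_⟩
    simp [contractLeft_apply]
  obtain ⟨r, hr, hr0⟩ := Submodule.exists_sub_one_mem_and_smul_eq_zero_of_fg_of_le_smul T
    (⊤ : Submodule R M) Module.Finite.fg_top hle
  have hr00 : r = 0 := by
    apply FaithfulSMul.eq_of_smul_eq_smul (α := M)
    intro m
    rw [hr0 m Submodule.mem_top, zero_smul]
  rw [hr00, zero_sub] at hr
  have h1 : (1 : R) ∈ T := by simpa using T.neg_mem hr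
  exact h1

theorem faithfulSMul_baseChange [Module.Finite R M] [Module.Projective R M]
    [FaithfulSMul R M] : FaithfulSMul S (S ⊗[R] M) := by
  obtain ⟨t, ht⟩ := exists_contractLeft_eq_one R M
  refine ⟨fun {s s'} h => ?_⟩
  -- the set of `r` with `s * r = s' * r` is an ideal containing all `f m`
  have key : ∀ t : Module.Dual R M ⊗[R] M,
      s * algebraMap R S (contractLeft R M t) = s' * algebraMap R S (contractLeft R M t) := by
    intro t
    induction t using TensorProduct.induction_on with
    | zero => simp
    | add x y hx hy => simp only [map_add, mul_add, hx, hy]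
    | tmul f m =>
      have h2 := congrArg ((TensorProduct.AlgebraTensorModule.rid R S S) ∘
        (f.baseChange S)) (h (1 ⊗ₜ m))
      simpa [contractLeft_apply, Algebra.smul_def, mul_comm] using h2
  have := key t
  rwa [ht, map_one, mul_one, mul_one] at this

end Faithful

/-- The base change of an Azumaya algebra is Azumaya. -/
theorem isAzumaya_baseChange (R : Type u) [CommRing R] (S : Type v) [CommRing S] [Algebra R S]
    (A : Type w) [Ring A] [Algebra R A] [IsAzumaya R A] : IsAzumaya S (S ⊗[R] A) :=
  haveI := faithfulSMul_baseChange R S A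
  ⟨mulLeftRight_baseChange_bijective R S A⟩

end Groth.Agent.Lib.Helper85
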