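import Groth.Agent.Lib.Helper85.FibreDescent
import Mathlib.RingTheory.LocalRing.Module
import Mathlib.RingTheory.Support
import Mathlib.RingTheory.LocalRing.ResidueField.Ideal
import Mathlib.RingTheory.SimpleRing.Basic
import Mathlib.LinearAlgebra.FiniteDimensional.Lemmas

/-!
# Bijectivity on residue-field fibres (helper85)
-/

set_option autoImplicit false
universe u w

namespace Groth.Agent.Lib.Helper85

open scoped TensorProduct

variable (R : Type u) [CommRing R]

/-- A finite module all of whose residue-field fibres vanish is zero. -/
theorem subsingleton_of_forall_residueField_tensor (M : Type w) [AddCommGroup M] [Module R M]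
    [Module.Finite R M]
    (hM : ∀ p : PrimeSpectrum R, Subsingleton (p.asIdeal.ResidueField ⊗[R] M)) :
    Subsingleton M := by
  rw [← Module.support_eq_empty_iff (R := R)]
  rw [Set.eq_empty_iff_forall_notMem]
  intro p hp
  rw [Module.mem_support_iff_nontrivial_residueField_tensorProduct] at hp
  exact not_subsingleton _ (hM p)

/-- Bijectivity of a linear map from a finite module to a finite projective module can be checked
on all residue-field fibres. -/
theorem bijective_of_forall_residueField_baseChange_bijective
    {P : Type w} [AddCommGroup P] [Module R P] [Module.Finite R P]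
    {P' : Type w} [AddCommGroup P'] [Module R P'] [Module.Finite R P'] [Module.Projective R P']
    (φ : P →ₗ[R] P')
    (h : ∀ p : PrimeSpectrum R, Function.Bijective (φ.baseChange p.asIdeal.ResidueField)) :
    Function.Bijective φ :=
  bijective_of_forall_baseChange_bijective R (fun p : PrimeSpectrum R => p.asIdeal.ResidueField)
    (fun M _ _ _ hM => subsingleton_of_forall_residueField_tensor R M hM) φ h

/-- An algebra homomorphism between finite (projective) algebras is bijective as soon as on each
residue-field fibre the source is a simple ring, the target is nontrivial and the dimensions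
agree. -/
theorem algHom_bijective_of_fibres
    {B : Type w} [Ring B] [Algebra R B] [Module.Finite R B]
    {C : Type w} [Ring C] [Algebra R C] [Module.Finite R C] [Module.Projective R C]
    (Ψ : B →ₐ[R] C)
    (h : ∀ p : PrimeSpectrum R, IsSimpleRing (p.asIdeal.ResidueField ⊗[R] B) ∧
      Nontrivial (p.asIdeal.ResidueField ⊗[R] C) ∧
      Module.finrank p.asIdeal.ResidueField (p.asIdeal.ResidueField ⊗[R] B) =
        Module.finrank p.asIdeal.ResidueField (p.asIdeal.ResidueField ⊗[R] C)) :
    Function.Bijective Ψ := by
  refine bijective_of_forall_residueField_baseChange_bijective R Ψ.toLinearMap fun p => ?_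
  obtain ⟨hs, hn, hr⟩ := h p
  let Θ : p.asIdeal.ResidueField ⊗[R] B →ₐ[p.asIdeal.ResidueField] p.asIdeal.ResidueField ⊗[R] C :=
    Algebra.TensorProduct.map (AlgHom.id _ _) Ψ
  have hΘ : ∀ z, Θ z = Ψ.toLinearMap.baseChange p.asIdeal.ResidueField z := by
    intro z
    induction z using TensorProduct.induction_on with
    | zero => simp
    | add x y hx hy => rw [map_add, map_add, hx, hy]
    | tmul s b => simp [Θ]
  have hinj : Function.Injective Θ := RingHom.injective Θ.toRingHom
  have hbij : Function.Bijective Θ.toLinearMap :=
    ⟨hinj, (LinearMap.injective_iff_surjective_of_finrank_eq_finrank hr).mp hinj⟩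
  have : (Ψ.toLinearMap.baseChange p.asIdeal.ResidueField : _ → _) = Θ.toLinearMap := by
    funext z
    exact (hΘ z).symm
  rw [this]
  exact hbij

end Groth.Agent.Lib.Helper85
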