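import Mathlib.Algebra.Azumaya.Basic
import Mathlib.LinearAlgebra.Contraction
import Mathlib.LinearAlgebra.TensorProduct.Opposite
import Mathlib.RingTheory.Flat.Basic
import Mathlib.RingTheory.TensorProduct.Maps

/-!
# Azumaya algebras: tensor products and base change (helper85)
-/

set_option autoImplicit false
universe u v w

namespace Groth.Agent.Lib.Helper85

open scoped TensorProduct
open MulOpposite

section Tensor

variable (R : Type u) [CommRing R] (A : Type v) [Ring A] [Algebra R A]
  (B : Type w) [Ring B] [Algebra R B]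

/-- The comparison map used to show that `mulLeftRight` for `A ⊗ B` is bijective. -/
noncomputable def tensorReorder :
    (A ⊗[R] Aᵐᵒᵖ) ⊗[R] (B ⊗[R] Bᵐᵒᵖ) ≃ₗ[R] (A ⊗[R] B) ⊗[R] (A ⊗[R] B)ᵐᵒᵖ :=
  (TensorProduct.tensorTensorTensorComm R A Aᵐᵒᵖ B Bᵐᵒᵖ).trans
    (TensorProduct.congr (LinearEquiv.refl R (A ⊗[R] B))
      (Algebra.TensorProduct.opAlgEquiv R R A B).toLinearEquiv)

theorem mulLeftRight_tensor_comp :
    (AlgHom.mulLeftRight R (A ⊗[R] B)).toLinearMap ∘ₗ (tensorReorder R A B).toLinearMap =
      (TensorProduct.homTensorHomMap (.id R) A B A B) ∘ₗ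
        (TensorProduct.map (AlgHom.mulLeftRight R A).toLinearMap
          (AlgHom.mulLeftRight R B).toLinearMap) := by
  apply TensorProduct.ext_fourfold'
  intro a a' b b'
  apply TensorProduct.ext'
  intro x y
  simp [tensorReorder]

theorem mulLeftRight_tensor_bijective [IsAzumaya R A] [IsAzumaya R B] :
    Function.Bijective (AlgHom.mulLeftRight R (A ⊗[R] B)) := by
  have h1 : Function.Bijective ((AlgHom.mulLeftRight R (A ⊗[R] B)).toLinearMap ∘ₗ
      (tensorReorder R A B).toLinearMap) := by
    rw [mulLeftRight_tensor_comp]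
    have hA : Function.Bijective (AlgHom.mulLeftRight R A) := IsAzumaya.bij
    have hB : Function.Bijective (AlgHom.mulLeftRight R B) := IsAzumaya.bij
    let eA : (A ⊗[R] Aᵐᵒᵖ) ≃ₗ[R] Module.End R A :=
      LinearEquiv.ofBijective (AlgHom.mulLeftRight R A).toLinearMap hA
    let eB : (B ⊗[R] Bᵐᵒᵖ) ≃ₗ[R] Module.End R B :=
      LinearEquiv.ofBijective (AlgHom.mulLeftRight R B).toLinearMap hB
    have h2 : (TensorProduct.homTensorHomMap (.id R) A B A B) ∘ₗ
        (TensorProduct.map (AlgHom.mulLeftRight R A).toLinearMap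
          (AlgHom.mulLeftRight R B).toLinearMap) =
        ((TensorProduct.congr eA eB).trans (homTensorHomEquiv R A B A B)).toLinearMap := by
      rw [LinearEquiv.coe_trans, homTensorHomEquiv_toLinearMap]
      rfl
    rw [h2]
    exact LinearEquiv.bijective _
  have h3 := (Function.Bijective.of_comp_iff (AlgHom.mulLeftRight R (A ⊗[R] B))
    (tensorReorder R A B).bijective).mp h1
  exact h3

theorem faithfulSMul_tensor [IsAzumaya R A] [IsAzumaya R B] : FaithfulSMul R (A ⊗[R] B) := by
  rw [faithfulSMul_iff_algebraMap_injective]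
  have hB : Function.Injective (algebraMap R B) := FaithfulSMul.algebraMap_injective R B
  have hA : Function.Injective (algebraMap R A) := FaithfulSMul.algebraMap_injective R A
  have h := (Algebra.TensorProduct.includeLeft_injective (R := R) (S := R) (A := A) (B := B) hB).comp hA
  convert h using 1
  funext r
  simp [Algebra.TensorProduct.algebraMap_apply]

/-- The tensor product of two Azumaya algebras is Azumaya. -/
theorem isAzumaya_tensorProduct [IsAzumaya R A] [IsAzumaya R B] : IsAzumaya R (A ⊗[R] B) :=
  haveI := faithfulSMul_tensor R A B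
  ⟨mulLeftRight_tensor_bijective R A B⟩

end Tensor

end Groth.Agent.Lib.Helper85
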