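import Mathlib.Algebra.Azumaya.Matrix
import Mathlib.Algebra.Azumaya.Basic
import Mathlib.RingTheory.TensorProduct.Finite
import Mathlib.LinearAlgebra.Dual.Lemmas
import Mathlib.LinearAlgebra.Contraction
import Mathlib.RingTheory.Finiteness.Projective

/-!
# `End_R(P)` is Azumaya for `P` faithful finite projective (helper85)

We pass from the matrix algebra to a corner `End P = e End(F) e` by a retraction argument.
-/

set_option autoImplicit false
universe u v w

namespace Groth.Agent.Lib.Helper85

open scoped TensorProduct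
open MulOpposite

section Retract

variable (R : Type u) [CommRing R] (E : Type v) [Ring E] [Algebra R E]
  (E' : Type w) [Ring E'] [Algebra R E']

/-- The opposite of a linear map. -/
noncomputable def opMap (ι : E →ₗ[R] E') : Eᵐᵒᵖ →ₗ[R] E'ᵐᵒᵖ :=
  (opLinearEquiv R).toLinearMap ∘ₗ ι ∘ₗ (opLinearEquiv R).symm.toLinearMap

@[simp] theorem opMap_apply (ι : E →ₗ[R] E') (b : Eᵐᵒᵖ) : opMap R E E' ι b = op (ι b.unop) := rfl

variable {R E E'}

/-- Bijectivity of `mulLeftRight` passes to a "corner": a retract `ι : E → E'`, `π : E' → E`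
compatible with the two-sided multiplications. -/
theorem mulLeftRight_bijective_of_retract (ι : E →ₗ[R] E') (π : E' →ₗ[R] E)
    (h1 : ∀ x, π (ι x) = x)
    (h3 : ∀ (u v : E') (x : E), π (u * ι x * v) = π u * x * π v)
    (h4 : ∀ (a b : E) (ψ : E'), ι a * ψ * ι b = ι (a * π ψ * b))
    (hbij : Function.Bijective (AlgHom.mulLeftRight R E')) :
    Function.Bijective (AlgHom.mulLeftRight R E) := by
  let I : E ⊗[R] Eᵐᵒᵖ →ₗ[R] E' ⊗[R] E'ᵐᵒᵖ := TensorProduct.map ι (opMap R E E' ι)
  let Pr : E' ⊗[R] E'ᵐᵒᵖ →ₗ[R] E ⊗[R] Eᵐᵒᵖ := TensorProduct.map π (opMap R E' E π)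
  have hPrI : ∀ z, Pr (I z) = z := by
    intro z
    induction z using TensorProduct.induction_on with
    | zero => simp
    | add x y hx hy => rw [map_add, map_add, hx, hy]
    | tmul a b => simp [I, Pr, h1]
  have claimA : ∀ (z : E ⊗[R] Eᵐᵒᵖ) (ψ : E'),
      AlgHom.mulLeftRight R E' (I z) ψ = ι (AlgHom.mulLeftRight R E z (π ψ)) := by
    intro z ψ
    induction z using TensorProduct.induction_on with
    | zero => simp
    | add x y hx hy => simp only [map_add, LinearMap.add_apply, hx, hy]
    | tmul a b => simp [I, h4]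
  have claimB : ∀ (w : E' ⊗[R] E'ᵐᵒᵖ) (x : E),
      AlgHom.mulLeftRight R E (Pr w) x = π (AlgHom.mulLeftRight R E' w (ι x)) := by
    intro w x
    induction w using TensorProduct.induction_on with
    | zero => simp
    | add x y hx hy => simp only [map_add, LinearMap.add_apply, hx, hy]
    | tmul a b => simp [Pr, h3]
  constructor
  · intro z z₂ hz
    have : I z = I z₂ := by
      apply hbij.1
      ext ψ
      rw [claimA, claimA, hz]
    rw [← hPrI z, ← hPrI z₂, this]
  · intro θ
    obtain ⟨w, hw⟩ := hbij.2 (ι ∘ₗ θ ∘ₗ π)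
    refine ⟨Pr w, ?_⟩
    ext x
    rw [claimB, hw]
    simp [h1]

end Retract

section EndProjective

variable (R : Type u) [CommRing R] (P : Type v) [AddCommGroup P] [Module R P]

theorem mulLeftRight_end_free_bijective (n : ℕ) [NeZero n] :
    Function.Bijective (AlgHom.mulLeftRight R (Module.End R (Fin n → R))) := by
  have : Nonempty (Fin n) := ⟨0⟩
  have : IsAzumaya R (Matrix (Fin n) (Fin n) R) := IsAzumaya.matrix R (Fin n)
  have : IsAzumaya R (Module.End R (Fin n → R)) :=
    IsAzumaya.of_AlgEquiv R _ _ (Matrix.toLinAlgEquiv' (R := R) (n := Fin n))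
  exact IsAzumaya.bij

theorem mulLeftRight_end_bijective [Module.Finite R P] [Module.Projective R P]
    [FaithfulSMul R P] : Function.Bijective (AlgHom.mulLeftRight R (Module.End R P)) := by
  obtain ⟨n, f, g, -, hg, eq⟩ := Module.Finite.exists_comp_eq_id_of_projective R P
  have hfg : ∀ p, f (g p) = p := fun p => LinearMap.congr_fun eq p
  rcases subsingleton_or_nontrivial R with hR | hR
  · -- everything is trivial
    have : Subsingleton (Module.End R (Module.End R P)) := Module.subsingleton R _
    have : Subsingleton (Module.End R P ⊗[R] (Module.End R P)ᵐᵒᵖ) := Module.subsingleton R _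
    exact ⟨fun _ _ _ => Subsingleton.elim _ _, fun θ => ⟨0, Subsingleton.elim _ _⟩⟩
  · have hn : NeZero n := by
      refine ⟨fun h0 => ?_⟩
      subst h0
      have hP : Subsingleton P := hg.subsingleton
      have : (0 : R) = 1 := by
        apply FaithfulSMul.eq_of_smul_eq_smul (α := P)
        intro p
        exact Subsingleton.elim _ _
      exact zero_ne_one this
    let ι : Module.End R P →ₗ[R] Module.End R (Fin n → R) :=
      (LinearMap.lcomp R (Fin n → R) f) ∘ₗ (g.compRight R)
    let π : Module.End R (Fin n → R) →ₗ[R] Module.End R P :=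
      (LinearMap.lcomp R P g) ∘ₗ (f.compRight R)
    refine mulLeftRight_bijective_of_retract ι π ?_ ?_ ?_ (mulLeftRight_end_free_bijective R n)
    · intro x
      ext p
      simp [ι, π, hfg]
    · intro u v x
      ext p
      simp [ι, π]
    · intro a b ψ
      ext p
      simp [ι, π]

/-- The endomorphism algebra of a faithful finite projective module is Azumaya. -/
theorem isAzumaya_end [Module.Finite R P] [Module.Projective R P] [FaithfulSMul R P] :
    IsAzumaya R (Module.End R P) :=
  haveI : Module.Finite R (Module.End R P) := Module.Finite.equiv (dualTensorHomEquiv R P P)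
  haveI : Module.Projective R (Module.End R P) :=
    Module.Projective.of_equiv (dualTensorHomEquiv R P P)
  haveI : FaithfulSMul R (Module.End R P) := by
    refine ⟨fun {r r'} h => ?_⟩
    apply FaithfulSMul.eq_of_smul_eq_smul (α := P)
    intro p
    have := LinearMap.congr_fun (h 1) p
    simpa using this
  ⟨mulLeftRight_end_bijective R P⟩

end EndProjective

end Groth.Agent.Lib.Helper85
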