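import Mathlib

/-!
# Valuation approximation and unit descent (helper85)

* `exists_forall_one_lt`: finitely many `ℤᵐ⁰`-valued valuations on a field `K`, a subring `A` not
  contained in any of the valuation rings: some nonzero `x ∈ A` has value `> 1` at all of them.
* `exists_eq_inv_of_isIntegral`: if `u : R` and `(u : K)⁻¹` is integral over `R`, then it lies in `R`.
-/

set_option autoImplicit false
set_option linter.style.haveILetI false
universe u v

namespace Groth.Agent.Lib.Helper85.SemilocalInv

open WithZero

theorem exists_pow_gt {Γ : Type*} [LinearOrderedCommGroupWithZero Γ] [MulArchimedean Γ]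
    {a b : Γ} (ha : 1 < a) : ∃ n : ℕ, ∀ m, n ≤ m → b < a ^ m := by
  obtain ⟨n, hn⟩ := MulArchimedean.arch b ha
  refine ⟨n + 1, fun m hm => ?_⟩
  have h0 : (0 : Γ) < a := lt_trans zero_lt_one ha
  calc b ≤ a ^ n := hn
    _ < a ^ (n + 1) := by
        rw [pow_succ]
        exact lt_mul_of_one_lt_right (pow_pos h0 n) ha
    _ ≤ a ^ m := pow_le_pow_right₀ ha.le hm

theorem exists_forall_one_lt {K : Type u} [Field K] (A : Subring K) {ι : Type v} [Finite ι]
    {Γ : Type*} [LinearOrderedCommGroupWithZero Γ] [MulArchimedean Γ]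
    (val : ι → Valuation K Γ) (h : ∀ w, ∃ a ∈ A, 1 < val w a) :
    ∃ x ∈ A, x ≠ 0 ∧ ∀ w, 1 < val w x := by
  classical
  haveI := Fintype.ofFinite ι
  suffices H : ∀ s : Finset ι, ∃ x ∈ A, x ≠ 0 ∧ ∀ w ∈ s, 1 < val w x by
    obtain ⟨x, hx, hx0, hxw⟩ := H Finset.univ
    exact ⟨x, hx, hx0, fun w => hxw w (Finset.mem_univ w)⟩
  intro s
  induction s using Finset.induction_on with
  | empty => exact ⟨1, A.one_mem, one_ne_zero, by simp⟩
  | insert j s hj ih =>
    obtain ⟨x, hxA, hx0, hx⟩ := ih
    by_cases hjx : 1 < val j x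
    · refine ⟨x, hxA, hx0, fun w hw => ?_⟩
      rcases Finset.mem_insert.mp hw with rfl | hw
      · exact hjx
      · exact hx w hw
    · have hjx' : val j x ≤ 1 := not_lt.mp hjx
      obtain ⟨y, hyA, hy⟩ := h j
      have hN : ∀ w : ι, ∃ n : ℕ, w ∈ s → ∀ m, n ≤ m → val w y < val w x ^ m := by
        intro w
        by_cases hw : w ∈ s
        · obtain ⟨n, hn⟩ := exists_pow_gt (b := val w y) (hx w hw)
          exact ⟨n, fun _ => hn⟩
        · exact ⟨0, fun h => absurd h hw⟩
      choose n hn using hN
      set N := (s.sup n) + 1 with hNdef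
      have hNpos : N ≠ 0 := Nat.succ_ne_zero _
      refine ⟨x ^ N + y, A.add_mem (A.pow_mem hxA N) hyA, ?_, ?_⟩
      · intro h0
        have h1 : val j (x ^ N + y) = val j y := by
          apply Valuation.map_add_eq_of_lt_right
          rw [map_pow]
          exact lt_of_le_of_lt (pow_le_one₀ zero_le hjx') hy
        rw [h0, map_zero] at h1
        rw [← h1] at hy
        exact absurd hy (not_lt.mpr zero_le)
      · intro w hw
        rcases Finset.mem_insert.mp hw with rfl | hw
        · have h1 : val w (x ^ N + y) = val w y := by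
            apply Valuation.map_add_eq_of_lt_right
            rw [map_pow]
            exact lt_of_le_of_lt (pow_le_one₀ zero_le hjx') hy
          rw [h1]; exact hy
        · have hlt : val w y < val w x ^ N :=
            hn w hw N (le_trans (Finset.le_sup hw) (Nat.le_succ _))
          have h1 : val w (x ^ N + y) = val w (x ^ N) := by
            apply Valuation.map_add_eq_of_lt_left
            rw [map_pow]; exact hlt
          rw [h1, map_pow]
          exact one_lt_pow₀ (hx w hw) hNpos

/-- unit descent: an element of `R` whose inverse in the field `K` is integral over `R` has its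
inverse in (the image of) `R`. -/
theorem exists_eq_inv_of_isIntegral {R : Type u} {K : Type v} [CommRing R] [Field K] [Algebra R K]
    (u : R) (hu0 : algebraMap R K u ≠ 0) (hint : IsIntegral R (algebraMap R K u)⁻¹) :
    ∃ w : R, algebraMap R K w = (algebraMap R K u)⁻¹ := by
  obtain ⟨p, hmonic, hp⟩ := hint
  set a : K := algebraMap R K u with ha
  letI : Invertible (a⁻¹) := invertibleOfNonzero (inv_ne_zero hu0)
  have hinv : ⅟(a⁻¹) = a := by
    rw [invOf_eq_inv, inv_inv]
  have h1 : Polynomial.eval₂ (algebraMap R K) a p.reverse = 0 := by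
    have := (Polynomial.eval₂_reverse_eq_zero_iff (algebraMap R K) (a⁻¹) p).mpr hp
    rwa [hinv] at this
  have h2 : p.reverse.coeff 0 = 1 := by
    rw [Polynomial.coeff_zero_reverse]; exact hmonic
  have h3 : p.reverse = p.reverse.divX * Polynomial.X + Polynomial.C 1 := by
    rw [← h2]; exact (Polynomial.divX_mul_X_add _).symm
  rw [h3, Polynomial.eval₂_add, Polynomial.eval₂_mul, Polynomial.eval₂_X, Polynomial.eval₂_C,
    map_one, ha, Polynomial.eval₂_at_apply] at h1
  refine ⟨-(Polynomial.eval u p.reverse.divX), ?_⟩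
  rw [map_neg]
  apply eq_inv_of_mul_eq_one_left
  rw [← ha] at h1
  linear_combination -h1

end Groth.Agent.Lib.Helper85.SemilocalInv
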