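import Mathlib.RingTheory.TensorProduct.Basic
import Mathlib.RingTheory.Spectrum.Prime.RingHom
import Mathlib.RingTheory.Finiteness.Basic
import Mathlib.Algebra.Module.Projective
import Mathlib.LinearAlgebra.TensorProduct.RightExactness

/-!
# Descent of vanishing / bijectivity along ring maps that are surjective on spectra (helper85)
-/

set_option autoImplicit false
universe u v w

namespace Groth.Agent.Lib.Helper85

open scoped TensorProduct

variable (R : Type u) [CommRing R] (S : Type v) [CommRing S] [Algebra R S]

/-- A proper ideal of `R` stays proper in `S` when `Spec S → Spec R` is surjective: concretely it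
is contained in the contraction of a prime of `S`. -/
theorem exists_prime_comap_ge (hS : Function.Surjective (PrimeSpectrum.comap (algebraMap R S)))
    (I : Ideal R) (hI : I ≠ ⊤) : ∃ q : Ideal S, q.IsPrime ∧ I ≤ q.comap (algebraMap R S) := by
  obtain ⟨m, hm, hIm⟩ := Ideal.exists_le_maximal I hI
  obtain ⟨q, hq⟩ := hS ⟨m, hm.isPrime⟩
  refine ⟨q.asIdeal, q.isPrime, ?_⟩
  have : q.asIdeal.comap (algebraMap R S) = m := congrArg PrimeSpectrum.asIdeal hq
  rw [this]
  exact hIm

/-- Cyclic case: if `S ⊗ (R ⧸ I) = 0` then `I = ⊤`. -/
theorem eq_top_of_subsingleton_tensor_quotient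
    (hS : Function.Surjective (PrimeSpectrum.comap (algebraMap R S)))
    (I : Ideal R) (h : Subsingleton (S ⊗[R] (R ⧸ I))) : I = ⊤ := by
  by_contra hI
  obtain ⟨q, hq, hIq⟩ := exists_prime_comap_ge R S hS I hI
  -- the `R`-linear map `R ⧸ I → S ⧸ q`
  let φ : (R ⧸ I) →ₗ[R] (S ⧸ q) :=
    Submodule.liftQ I ((Ideal.Quotient.mkₐ R q).toLinearMap ∘ₗ (Algebra.linearMap R S)) (by
      intro x hx
      rw [LinearMap.mem_ker]
      simp only [LinearMap.coe_comp, Function.comp_apply, Algebra.linearMap_apply,
        AlgHom.toLinearMap_apply, Ideal.Quotient.mkₐ_eq_mk]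
      exact Ideal.Quotient.eq_zero_iff_mem.mpr (hIq hx))
  let Φ : S ⊗[R] (R ⧸ I) →ₗ[S] (S ⧸ q) := φ.liftBaseChange S
  have h1 : Φ ((1 : S) ⊗ₜ (Ideal.Quotient.mk I 1)) = 1 := by
    rw [LinearMap.liftBaseChange_tmul, one_smul]
    change φ (Submodule.Quotient.mk 1) = 1
    rw [Submodule.liftQ_apply]
    simp
  have h0 : ((1 : S) ⊗ₜ[R] (Ideal.Quotient.mk I 1) : S ⊗[R] (R ⧸ I)) = 0 := Subsingleton.elim _ _
  rw [h0, map_zero] at h1
  have : (1 : S) ∈ q := Ideal.Quotient.eq_zero_iff_mem.mp (by rw [map_one]; exact h1.symm)
  exact hq.ne_top ((Ideal.eq_top_iff_one _).mpr this)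

theorem subsingleton_of_subsingleton_tensor_aux
    (hS : Function.Surjective (PrimeSpectrum.comap (algebraMap R S))) :
    ∀ (n : ℕ) (M : Type w) [AddCommGroup M] [Module R M] (x : Fin n → M),
      Submodule.span R (Set.range x) = ⊤ → Subsingleton (S ⊗[R] M) → Subsingleton M := by
  intro n
  induction n with
  | zero =>
    intro M _ _ x hx _
    refine ⟨fun a b => ?_⟩
    have h0 : ∀ m : M, m = 0 := by
      intro m
      have hm : m ∈ Submodule.span R (Set.range x) := by rw [hx]; trivial
      have hempty : Set.range x = ∅ := Set.range_eq_empty x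
      rw [hempty, Submodule.span_empty] at hm
      exact (Submodule.mem_bot R).mp hm
    rw [h0 a, h0 b]
  | succ n ih =>
    intro M _ _ x hx hsub
    set N : Submodule R M := Submodule.span R {x 0} with hN
    -- the quotient by the first generator is generated by `n` elements
    have hx' : Submodule.span R (Set.range fun i : Fin n => N.mkQ (x i.succ)) = ⊤ := by
      rw [eq_top_iff]
      rintro y -
      obtain ⟨m, rfl⟩ := N.mkQ_surjective y
      have hm : m ∈ Submodule.span R (Set.range x) := by rw [hx]; trivial
      have := Submodule.mem_map_of_mem (f := N.mkQ) hm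
      rw [Submodule.map_span] at this
      refine Submodule.span_le.mpr ?_ this
      rintro _ ⟨_, ⟨i, rfl⟩, rfl⟩
      induction i using Fin.cases with
      | zero =>
        have : N.mkQ (x 0) = 0 := by
          rw [Submodule.mkQ_apply, Submodule.Quotient.mk_eq_zero]
          exact Submodule.subset_span rfl
        rw [this]
        exact Submodule.zero_mem _
      | succ j => exact Submodule.subset_span ⟨j, rfl⟩
    have hsub' : Subsingleton (S ⊗[R] (M ⧸ N)) :=
      (LinearMap.lTensor_surjective S N.mkQ_surjective).subsingleton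
    have hquot : Subsingleton (M ⧸ N) := ih (M ⧸ N) _ hx' hsub'
    have hNtop : N = ⊤ := Submodule.Quotient.subsingleton_iff.mp hquot
    -- cyclic case
    let f : R →ₗ[R] M := LinearMap.toSpanSingleton R M (x 0)
    have hf : Function.Surjective f := by
      rw [← LinearMap.range_eq_top, LinearMap.range_toSpanSingleton, ← hN, hNtop]
    let e : (R ⧸ LinearMap.ker f) ≃ₗ[R] M := f.quotKerEquivOfSurjective hf
    have hsub'' : Subsingleton (S ⊗[R] (R ⧸ LinearMap.ker f)) :=
      (TensorProduct.congr (LinearEquiv.refl R S) e).injective.subsingleton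
    have hker : LinearMap.ker f = ⊤ :=
      eq_top_of_subsingleton_tensor_quotient R S hS (LinearMap.ker f) hsub''
    refine ⟨fun a b => ?_⟩
    have h0 : ∀ m : M, m = 0 := by
      intro m
      obtain ⟨r, rfl⟩ := hf m
      have : r ∈ LinearMap.ker f := by rw [hker]; trivial
      exact this
    rw [h0 a, h0 b]

/-- If `Spec S → Spec R` is surjective and `M` is a finite `R`-module with `S ⊗ M = 0`, then
`M = 0`. -/
theorem subsingleton_of_subsingleton_tensor
    (hS : Function.Surjective (PrimeSpectrum.comap (algebraMap R S)))
    (M : Type w) [AddCommGroup M] [Module R M] [Module.Finite R M]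
    (h : Subsingleton (S ⊗[R] M)) : Subsingleton M := by
  obtain ⟨n, x, hx⟩ := Module.Finite.exists_fin (R := R) (M := M)
  exact subsingleton_of_subsingleton_tensor_aux R S hS n M x hx h

/-- Bijectivity of a linear map from a finite module to a finite projective module descends along
a ring map that is surjective on spectra. -/
theorem bijective_of_baseChange_bijective
    (hS : Function.Surjective (PrimeSpectrum.comap (algebraMap R S)))
    {P : Type w} [AddCommGroup P] [Module R P] [Module.Finite R P]
    {P' : Type w} [AddCommGroup P'] [Module R P'] [Module.Finite R P'] [Module.Projective R P']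
    (φ : P →ₗ[R] P') (h : Function.Bijective (φ.baseChange S)) : Function.Bijective φ := by
  have hbc : ∀ (X Y : Type w) [AddCommGroup X] [Module R X] [AddCommGroup Y] [Module R Y]
      (g : X →ₗ[R] Y) (z : S ⊗[R] X), g.baseChange S z = g.lTensor S z := fun _ _ _ _ _ _ _ _ => rfl
  -- surjectivity
  have hsurj : Function.Surjective φ := by
    rw [← LinearMap.range_eq_top]
    have hC : Subsingleton (S ⊗[R] (P' ⧸ LinearMap.range φ)) := by
      refine ⟨fun a b => ?_⟩
      have h0 : ∀ z : S ⊗[R] (P' ⧸ LinearMap.range φ), z = 0 := by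
        intro z
        obtain ⟨w, rfl⟩ := LinearMap.lTensor_surjective S (LinearMap.range φ).mkQ_surjective z
        obtain ⟨v, rfl⟩ := h.2 w
        rw [hbc, ← LinearMap.comp_apply, ← LinearMap.lTensor_comp]
        have : (LinearMap.range φ).mkQ ∘ₗ φ = 0 := by
          ext x
          simp
        rw [this, LinearMap.lTensor_zero, LinearMap.zero_apply]
      rw [h0 a, h0 b]
    have := subsingleton_of_subsingleton_tensor R S hS (P' ⧸ LinearMap.range φ) hC
    exact Submodule.Quotient.subsingleton_iff.mp this
  refine ⟨?_, hsurj⟩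
  -- injectivity
  obtain ⟨σ, hσ⟩ := Module.projective_lifting_property φ LinearMap.id hsurj
  have hσ' : ∀ y, φ (σ y) = y := fun y => LinearMap.congr_fun hσ y
  let π : P →ₗ[R] P := LinearMap.id - σ ∘ₗ φ
  have hφπ : ∀ p, φ (π p) = 0 := by
    intro p
    simp [π, hσ']
  have hππ : ∀ p, π (π p) = π p := by
    intro p
    change π p - σ (φ (π p)) = π p
    rw [hφπ, map_zero, sub_zero]
  have hπS : ∀ z, π.baseChange S z = 0 := by
    intro z
    have h1 : (σ.baseChange S) ((φ.baseChange S) z) = z := by
      apply h.1
      rw [← LinearMap.comp_apply, ← LinearMap.comp_apply, ← LinearMap.baseChange_comp, hσ,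
        LinearMap.baseChange_id, LinearMap.id_comp]
    have h2 : π.baseChange S = LinearMap.id - (σ.baseChange S) ∘ₗ (φ.baseChange S) := by
      rw [← LinearMap.baseChange_comp, ← LinearMap.baseChange_id, ← LinearMap.baseChange_sub]
    rw [h2, LinearMap.sub_apply, LinearMap.id_apply, LinearMap.comp_apply, h1, sub_self]
  have hK : Subsingleton (S ⊗[R] LinearMap.range π) := by
    refine ⟨fun a b => ?_⟩
    have h0 : ∀ z : S ⊗[R] LinearMap.range π, z = 0 := by
      intro z
      have hid : π.rangeRestrict ∘ₗ (LinearMap.range π).subtype = LinearMap.id := by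
        ext ⟨k, p, rfl⟩
        simp [hππ]
      have hπ : (LinearMap.range π).subtype ∘ₗ π.rangeRestrict = π := by
        ext p; rfl
      have e1 : z = (π.rangeRestrict.baseChange S) (((LinearMap.range π).subtype.baseChange S) z) := by
        rw [← LinearMap.comp_apply, ← LinearMap.baseChange_comp, hid, LinearMap.baseChange_id,
          LinearMap.id_apply]
      have hcomp : (LinearMap.range π).subtype.baseChange S ∘ₗ π.rangeRestrict.baseChange S =
          π.baseChange S := by
        rw [← LinearMap.baseChange_comp]
        exact congrArg (LinearMap.baseChange S) hπ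
      have e2 : ((LinearMap.range π).subtype.baseChange S) z = 0 := by
        calc ((LinearMap.range π).subtype.baseChange S) z
            = ((LinearMap.range π).subtype.baseChange S) ((π.rangeRestrict.baseChange S)
                (((LinearMap.range π).subtype.baseChange S) z)) := congrArg _ e1
          _ = (π.baseChange S) (((LinearMap.range π).subtype.baseChange S) z) := by
              rw [← LinearMap.comp_apply, hcomp]
          _ = 0 := hπS _
      rw [e1, e2, map_zero]
    rw [h0 a, h0 b]
  have hKsub := subsingleton_of_subsingleton_tensor R S hS (LinearMap.range π) hK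
  intro p p' hpp
  have hp0 : ∀ p, π p = 0 := by
    intro p
    have : (⟨π p, p, rfl⟩ : LinearMap.range π) = 0 := Subsingleton.elim _ _
    exact congrArg Subtype.val this
  have hp : ∀ p, p = σ (φ p) := by
    intro p
    have := hp0 p
    simp only [π, LinearMap.sub_apply, LinearMap.id_apply, LinearMap.comp_apply] at this
    exact sub_eq_zero.mp this
  rw [hp p, hp p', hpp]

end Groth.Agent.Lib.Helper85
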