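import Groth.Agent.Lib.Helper85.AzumayaBaseChange
import Groth.Agent.Lib.Helper85.SpecSurjDescent
import Mathlib.RingTheory.TensorProduct.Finite
import Mathlib.LinearAlgebra.Dual.Lemmas
import Mathlib.RingTheory.Nilpotent.Lemmas

/-!
# Descent of Azumaya algebras along ring maps surjective on spectra (helper85)
-/

set_option autoImplicit false
universe u v w

namespace Groth.Agent.Lib.Helper85

open scoped TensorProduct
open MulOpposite

variable (R : Type u) [CommRing R] (S : Type v) [CommRing S] [Algebra R S]
  (B : Type w) [Ring B] [Algebra R B]

/-- If `S ⊗ B` is faithful over `S`, `B` is finite projective and `Spec S → Spec R` is surjective,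
then `B` is faithful over `R`. -/
theorem faithfulSMul_of_baseChange_of_comap_surjective
    (hS : Function.Surjective (PrimeSpectrum.comap (algebraMap R S)))
    [Module.Finite R B] [Module.Projective R B] [FaithfulSMul S (S ⊗[R] B)] :
    FaithfulSMul R B := by
  obtain ⟨n, f, g, -, -, eq⟩ := Module.Finite.exists_comp_eq_id_of_projective R B
  let T : Ideal R := LinearMap.range (contractLeft R B)
  have hle : (⊤ : Submodule R B) ≤ T • (⊤ : Submodule R B) := by
    intro x _
    have hx : x = ∑ i, (g x i) • f (Pi.single i 1) := by
      conv_lhs => rw [← show f (g x) = x from LinearMap.congr_fun eq x]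
      conv_lhs => rw [← Finset.univ_sum_single (g x)]
      rw [map_sum]
      refine Finset.sum_congr rfl fun i _ => ?_
      rw [← map_smul]
      congr 1
      ext j
      simp [Pi.single_apply]
    rw [hx]
    refine Submodule.sum_mem _ fun i _ => Submodule.smul_mem_smul ?_ Submodule.mem_top
    refine ⟨((LinearMap.proj i : (Fin n → R) →ₗ[R] R) ∘ₗ g) ⊗ₜ x, ?_⟩
    simp [contractLeft_apply]
  obtain ⟨a, ha, ha0⟩ := Submodule.exists_sub_one_mem_and_smul_eq_zero_of_fg_of_le_smul T
    (⊤ : Submodule R B) Module.Finite.fg_top hle
  -- `T` annihilates the annihilator of `B`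
  have hTann : ∀ t ∈ T, a * t = 0 := by
    rintro _ ⟨t, rfl⟩
    induction t using TensorProduct.induction_on with
    | zero => simp
    | add x y hx hy => rw [map_add, mul_add, hx, hy, add_zero]
    | tmul φ b =>
      rw [contractLeft_apply, ← smul_eq_mul, ← map_smul, ha0 b Submodule.mem_top, map_zero]
  -- `a` is idempotent
  have hidem : a * a = a := by
    have := hTann (a - 1) ha
    rw [mul_sub, mul_one, sub_eq_zero] at this
    exact this
  -- the image of `a` in `S` kills `S ⊗ B`, hence vanishes
  have haS : algebraMap R S a = 0 := by
    apply FaithfulSMul.eq_of_smul_eq_smul (α := S ⊗[R] B)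
    intro x
    induction x using TensorProduct.induction_on with
    | zero => simp
    | add x y hx hy => rw [smul_add, smul_add, hx, hy]
    | tmul s b =>
      rw [algebraMap_smul, ← TensorProduct.tmul_smul, ha0 b Submodule.mem_top, zero_smul,
        TensorProduct.tmul_zero]
  -- hence `a` lies in every prime, so is nilpotent, so is zero
  have hanil : IsNilpotent a := by
    rw [← mem_nilradical, nilradical_eq_sInf, Ideal.mem_sInf]
    intro p hp
    obtain ⟨q, hq⟩ := hS ⟨p, hp⟩
    have : q.asIdeal.comap (algebraMap R S) = p := congrArg PrimeSpectrum.asIdeal hq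
    rw [← this, Ideal.mem_comap, haS]
    exact Ideal.zero_mem _
  have ha00 : a = 0 := by
    obtain ⟨k, hk⟩ := hanil
    have hpow : ∀ m : ℕ, a ^ (m + 1) = a := by
      intro m
      induction m with
      | zero => simp
      | succ m ih => rw [pow_succ, ih, hidem]
    rcases k with _ | k
    · have h10 : (1 : R) = 0 := by simpa using hk
      rw [← mul_one a, h10, mul_zero]
    · rw [← hpow k, hk]
  have h1T : (1 : R) ∈ T := by
    rw [ha00, zero_sub] at ha
    simpa using T.neg_mem ha
  obtain ⟨t, ht⟩ := h1T
  refine ⟨fun {r r'} hrr => ?_⟩
  have key : ∀ t : Module.Dual R B ⊗[R] B, r * contractLeft R B t = r' * contractLeft R B t := by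
    intro t
    induction t using TensorProduct.induction_on with
    | zero => simp
    | add x y hx hy => simp only [map_add, mul_add, hx, hy]
    | tmul φ b =>
      rw [contractLeft_apply, ← smul_eq_mul, ← smul_eq_mul, ← map_smul, ← map_smul, hrr b]
  have := key t
  rwa [ht, mul_one, mul_one] at this

/-- Azumaya algebras descend along ring maps that are surjective on spectra, for finite projective
algebras. -/
theorem isAzumaya_of_baseChange_of_comap_surjective
    (hS : Function.Surjective (PrimeSpectrum.comap (algebraMap R S)))
    [Module.Finite R B] [Module.Projective R B] [IsAzumaya S (S ⊗[R] B)] : IsAzumaya R B := by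
  have hfaith := faithfulSMul_of_baseChange_of_comap_surjective R S B hS
  have hEndfin : Module.Finite R (Module.End R B) := Module.Finite.equiv (dualTensorHomEquiv R B B)
  have hEndproj : Module.Projective R (Module.End R B) :=
    Module.Projective.of_equiv (dualTensorHomEquiv R B B)
  refine ⟨?_⟩
  have h1 : Function.Bijective ((AlgHom.mulLeftRight S (S ⊗[R] B)).toLinearMap ∘ₗ
      (baseChangeReorder R S B).toLinearMap) := by
    rw [LinearMap.coe_comp]
    exact Function.Bijective.comp IsAzumaya.bij (baseChangeReorder R S B).bijective
  rw [mulLeftRight_baseChange_comp, LinearMap.coe_comp] at h1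
  have hT := tensorProduct_bijective_of_finite_projective R S B B
  have h2 : Function.Bijective ((AlgHom.mulLeftRight R B).toLinearMap.baseChange S) :=
    (Function.Bijective.of_comp_iff' hT _).mp h1
  exact bijective_of_baseChange_bijective R S hS (AlgHom.mulLeftRight R B).toLinearMap h2

end Groth.Agent.Lib.Helper85
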