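import Groth.Agent.Lib.Helper85.SemilocalInv
import Groth.Agent.Lib.Helper85.KrullAkizukiField

/-!
# Powers of radical elements of the normalization land in the ring (helper85)

`R` a one-dimensional Noetherian domain with fraction field `K`; `x, y ∈ K` integral over `R`, and
`x` "in the Jacobson radical of the integral closure" (expressed by `hU`).  Then `x ^ n * y ∈ R`
for all large `n`.
-/

set_option autoImplicit false
set_option linter.style.haveILetI false
universe u v

namespace Groth.Agent.Lib.Helper85.SemilocalInv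

open Groth.Agent.Lib.Helper85

theorem exists_pow_mul_mem_range {R : Type u} {K : Type u} [CommRing R] [IsDomain R]
    [IsNoetherianRing R] [Field K] [Algebra R K] [IsFractionRing R K]
    (hdim : ringKrullDim R = 1) (x y : K) (hx : IsIntegral R x) (hy : IsIntegral R y)
    (hU : ∀ z : K, IsIntegral R z → 1 + z * x ≠ 0 ∧ IsIntegral R (1 + z * x)⁻¹) :
    ∃ n₀ : ℕ, ∀ n, n₀ ≤ n → x ^ n * y ∈ (algebraMap R K).range := by
  classical
  haveI : Ring.KrullDimLE 1 R := Ring.krullDimLE_iff.mpr (by rw [hdim]; rfl)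
  set B₁ : Subalgebra R K := Algebra.adjoin R {x, y} with hB₁
  have hxy : ∀ t ∈ ({x, y} : Set K), IsIntegral R t := by
    intro t ht
    rcases ht with rfl | rfl
    · exact hx
    · exact hy
  have hB₁int : ∀ t ∈ B₁, IsIntegral R t := fun t ht =>
    (Algebra.adjoin_le_iff.mpr (fun t ht => hxy t ht) : B₁ ≤ integralClosure R K) ht
  have hfg : (Subalgebra.toSubmodule B₁).FG :=
    fg_adjoin_of_finite (Set.toFinite _) hxy
  obtain ⟨s, hs⟩ := hfg
  obtain ⟨⟨d, hd⟩, hds⟩ := IsLocalization.exist_integer_multiples_of_finset (nonZeroDivisors R) s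
  have hd0 : d ≠ 0 := nonZeroDivisors.ne_zero hd
  -- `d B₁ ⊆ R`
  have hdB' : ∀ t ∈ Submodule.span R (s : Set K),
      algebraMap R K d * t ∈ (algebraMap R K).range := by
    intro t ht
    induction ht using Submodule.span_induction with
    | mem t ht =>
      obtain ⟨b, hb⟩ := hds t ht
      refine ⟨b, ?_⟩
      rw [hb, Algebra.smul_def]
    | zero => rw [mul_zero]; exact Subring.zero_mem _
    | add t z _ _ ht hz => rw [mul_add]; exact Subring.add_mem _ ht hz
    | smul c t _ ht =>
      have : algebraMap R K d * c • t = algebraMap R K c * (algebraMap R K d * t) := by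
        rw [Algebra.smul_def]; ring
      rw [this]; exact Subring.mul_mem _ ⟨c, rfl⟩ ht
  have hdB : ∀ t ∈ B₁, algebraMap R K d * t ∈ (algebraMap R K).range := by
    intro t ht
    exact hdB' t (by rw [hs]; exact ht)
  -- Artinian quotient
  have hinj : Function.Injective (algebraMap B₁ K) := Subtype.val_injective
  haveI hArt : IsArtinianRing (B₁ ⧸ (Ideal.span {algebraMap R B₁ d} : Ideal B₁)) :=
    KrullAkizuki.sandwich_isArtinianRing_quotient R K K B₁ hinj hd0
  set x₁ : B₁ := ⟨x, Algebra.subset_adjoin (by simp)⟩ with hx₁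
  set y₁ : B₁ := ⟨y, Algebra.subset_adjoin (by simp)⟩ with hy₁
  set I : Ideal B₁ := Ideal.span {algebraMap R B₁ d} with hI
  obtain ⟨n, q', hq'⟩ := IsArtinian.exists_pow_succ_smul_dvd (Ideal.Quotient.mk I x₁)
    (1 : B₁ ⧸ I)
  obtain ⟨q, rfl⟩ := Ideal.Quotient.mk_surjective q'
  have h1 : x₁ ^ (n + 1) * q - x₁ ^ n ∈ I := by
    rw [← Ideal.Quotient.eq]
    rw [smul_eq_mul, smul_eq_mul, mul_one] at hq'
    rw [map_mul, map_pow, map_pow]
    exact hq'
  obtain ⟨c, hc⟩ := Ideal.mem_span_singleton'.mp h1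
  have h2 : x ^ (n + 1) * (q : K) - x ^ n = (c : K) * algebraMap R K d := by
    have h3 := congrArg (Subtype.val) hc
    have h4 : ((c * algebraMap R B₁ d : B₁) : K) = (c : K) * algebraMap R K d := rfl
    have h5 : ((x₁ ^ (n + 1) * q - x₁ ^ n : B₁) : K) = x ^ (n + 1) * (q : K) - x ^ n := by
      simp [hx₁]
    rw [← h4, ← h5]
    exact h3.symm
  -- the unit `u = 1 - x q`
  have hqint : IsIntegral R (-(q : K)) := (hB₁int _ q.2).neg
  obtain ⟨hu0, huint⟩ := hU (-(q : K)) hqint
  set u₁ : B₁ := 1 + (-q) * x₁ with hu₁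
  have hu₁K : algebraMap B₁ K u₁ = 1 + -(q : K) * x := rfl
  have huint' : IsIntegral B₁ (algebraMap B₁ K u₁)⁻¹ := by
    rw [hu₁K]; exact huint.tower_top
  obtain ⟨w, hw⟩ := exists_eq_inv_of_isIntegral (R := B₁) (K := K) u₁ (by rw [hu₁K]; exact hu0)
    huint'
  rw [hu₁K] at hw
  have hwK : (1 + -(q : K) * x) * algebraMap B₁ K w = 1 := by
    rw [hw]; exact mul_inv_cancel₀ hu0
  have h6 : x ^ n = algebraMap R K d * (-(c : K) * algebraMap B₁ K w) := by
    have h7 : x ^ n * (1 + -(q : K) * x) = -((c : K) * algebraMap R K d) := by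
      rw [← h2]; ring
    calc x ^ n = x ^ n * ((1 + -(q : K) * x) * algebraMap B₁ K w) := by rw [hwK, mul_one]
      _ = (x ^ n * (1 + -(q : K) * x)) * algebraMap B₁ K w := by ring
      _ = algebraMap R K d * (-(c : K) * algebraMap B₁ K w) := by rw [h7]; ring
  refine ⟨n, fun k hk => ?_⟩
  obtain ⟨j, rfl⟩ := Nat.exists_eq_add_of_le hk
  have h8 : x ^ (n + j) * y = algebraMap R K d * ((x₁ ^ j * (-c * w) * y₁ : B₁) : K) := by
    rw [pow_add, h6]
    have : ((x₁ ^ j * (-c * w) * y₁ : B₁) : K) = x ^ j * (-(c : K) * algebraMap B₁ K w) * y := by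
      simp [hx₁, hy₁]
    rw [this]; ring
  rw [h8]
  exact hdB _ (Subtype.mem _)

end Groth.Agent.Lib.Helper85.SemilocalInv
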