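import Mathlib.RingTheory.LocalRing.Module
import Mathlib.RingTheory.OrzechProperty
import Mathlib.RingTheory.Noetherian.Orzech
import Mathlib.LinearAlgebra.FreeModule.Finite.Basic
import Mathlib.LinearAlgebra.Dimension.Constructions
import Mathlib.LinearAlgebra.Dimension.Free
import Mathlib.LinearAlgebra.FreeModule.StrongRankCondition
import Mathlib.Algebra.Module.Projective

/-!
# Algebra endomorphisms of `End_R(V)` over a local ring are inner (helper85)

For a finite free nonzero module `V` over a local ring `R`, every `R`-algebra endomorphism `ρ` of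
`End_R(V)` is of the form `f ↦ θ f θ⁻¹` for a linear automorphism `θ` of `V` (matrix units
argument).
-/

set_option autoImplicit false
universe u v

namespace Groth.Agent.Lib.Helper85

open scoped BigOperators

variable {R : Type u} [CommRing R] [IsLocalRing R] {V : Type v} [AddCommGroup V] [Module R V]
  [Module.Free R V] [Module.Finite R V] [Nontrivial V]

theorem exists_linearEquiv_intertwining (ρ : Module.End R V →ₐ[R] Module.End R V) :
    ∃ θ : V ≃ₗ[R] V, ∀ (f : Module.End R V) (v : V), θ (f v) = ρ f (θ v) := by
  classical
  let b := Module.Free.chooseBasis R V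
  obtain ⟨i0⟩ : Nonempty (Module.Free.ChooseBasisIndex R V) := b.index_nonempty
  -- the "column" operators `E v : w ↦ coord₀(w) • v`
  let E : V →ₗ[R] Module.End R V :=
    { toFun := fun v => (b.coord i0).smulRight v
      map_add' := fun v w => by ext x; simp
      map_smul' := fun c v => by
        ext x
        simp only [LinearMap.smulRight_apply, RingHom.id_apply, LinearMap.smul_apply]
        rw [smul_comm] }
  have hE : ∀ v w, E v w = b.coord i0 w • v := fun _ _ => rfl
  -- the "row" operators `G j : w ↦ coord_j(w) • b₀`
  let G : Module.Free.ChooseBasisIndex R V → Module.End R V := fun j => (b.coord j).smulRight (b i0)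
  have hG : ∀ j w, G j w = b.coord j w • b i0 := fun _ _ => rfl
  have hcoord : ∀ i j, b.coord j (b i) = if i = j then 1 else 0 := by
    intro i j
    rw [Module.Basis.coord_apply, Module.Basis.repr_self, Finsupp.single_apply]
  -- identities between these operators
  have I1 : ∀ (f : Module.End R V) v, f * E v = E (f v) := by
    intro f v
    ext w
    rw [Module.End.mul_apply, hE, hE, map_smul]
  have I2 : ∀ j, E (b i0) * G j = G j := by
    intro j
    ext w
    rw [Module.End.mul_apply, hE, hG, map_smul, hcoord, if_pos rfl, smul_eq_mul, mul_one]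
  have I3 : ∑ j, E (b j) * G j = 1 := by
    ext w
    rw [LinearMap.sum_apply, Module.End.one_apply]
    conv_rhs => rw [← b.sum_repr w]
    refine Finset.sum_congr rfl fun j _ => ?_
    rw [Module.End.mul_apply, hE, hG, map_smul, hcoord, if_pos rfl, smul_eq_mul, mul_one,
      Module.Basis.coord_apply]
  have I4 : ∀ i j, G j * E (b i) = if i = j then E (b i0) else 0 := by
    intro i j
    ext w
    rw [Module.End.mul_apply, hE, hG, map_smul, hcoord]
    split_ifs with h
    · rw [hE, smul_eq_mul, mul_one]
    · rw [smul_eq_mul, mul_zero, zero_smul, LinearMap.zero_apply]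
  -- the idempotent `e' = ρ (E b₀)` and its range `P`
  set e' : Module.End R V := ρ (E (b i0)) with he'
  have hidem : e' * e' = e' := by
    rw [he', ← map_mul, I1, hE, hcoord, if_pos rfl, one_smul]
  let P : Submodule R V := LinearMap.range e'
  have hP : ∀ p ∈ P, e' p = p := by
    rintro _ ⟨x, rfl⟩
    rw [← Module.End.mul_apply, hidem]
  have hGP : ∀ j v, ρ (G j) v ∈ P := by
    intro j v
    refine ⟨ρ (G j) v, ?_⟩
    rw [he', ← Module.End.mul_apply, ← map_mul, I2]
  -- `V ≃ (ι → P)`
  let toP : V →ₗ[R] (Module.Free.ChooseBasisIndex R V → P) :=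
    LinearMap.pi fun j => (ρ (G j)).codRestrict P (hGP j)
  let ofP : (Module.Free.ChooseBasisIndex R V → P) →ₗ[R] V :=
    ∑ j, (ρ (E (b j))) ∘ₗ P.subtype ∘ₗ LinearMap.proj j
  have hsumV : ∀ v, ∑ j, ρ (E (b j)) (ρ (G j) v) = v := by
    intro v
    have : (∑ j, ρ (E (b j)) * ρ (G j)) v = v := by
      simp_rw [← map_mul]
      rw [← map_sum, I3, map_one, Module.End.one_apply]
    rw [LinearMap.sum_apply] at this
    exact this
  have h1 : ofP ∘ₗ toP = LinearMap.id := by
    ext v
    simp only [ofP, toP, LinearMap.comp_apply, LinearMap.sum_apply, LinearMap.proj_apply,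
      LinearMap.pi_apply, Submodule.subtype_apply, LinearMap.codRestrict_apply,
      LinearMap.id_apply]
    exact hsumV v
  have h2 : toP ∘ₗ ofP = LinearMap.id := by
    refine LinearMap.ext fun p => funext fun j => Subtype.ext ?_
    simp only [ofP, toP, LinearMap.comp_apply, LinearMap.sum_apply, LinearMap.proj_apply,
      LinearMap.pi_apply, Submodule.subtype_apply,
      LinearMap.id_apply, map_sum]
    have : ∀ i, ρ (G j) (ρ (E (b i)) (p i : V)) = if i = j then (p i : V) else 0 := by
      intro i
      rw [← Module.End.mul_apply, ← map_mul, I4]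
      split_ifs with h
      · exact hP _ (p i).2
      · rw [map_zero, LinearMap.zero_apply]
    rw [Submodule.coe_sum]
    simp only [LinearMap.codRestrict_apply]
    simp_rw [this]
    rw [Finset.sum_ite_eq' Finset.univ j]
    simp
  let eP : V ≃ₗ[R] (Module.Free.ChooseBasisIndex R V → P) := LinearEquiv.ofLinearMap toP ofP h2 h1
  -- `P` is finite free of rank one
  have hPfin : Module.Finite R P := Module.Finite.range e'
  have hPproj : Module.Projective R P :=
    Module.Projective.of_split P.subtype (e'.codRestrict P fun v => ⟨v, rfl⟩) (by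
      ext p
      simp only [LinearMap.comp_apply, Submodule.subtype_apply,
        LinearMap.id_apply]
      exact hP _ p.2)
  have hPfree : Module.Free R P := Module.free_of_flat_of_isLocalRing
  have hrank : Module.finrank R P = 1 := by
    have h3 := eP.finrank_eq
    rw [Module.finrank_pi_fintype, Finset.sum_const, Finset.card_univ, smul_eq_mul,
      Module.finrank_eq_card_chooseBasisIndex] at h3
    have hpos : 0 < Fintype.card (Module.Free.ChooseBasisIndex R V) := Fintype.card_pos
    have : Fintype.card (Module.Free.ChooseBasisIndex R V) * 1 =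
        Fintype.card (Module.Free.ChooseBasisIndex R V) * Module.finrank R P := by
      rw [mul_one]; exact h3
    exact (Nat.eq_of_mul_eq_mul_left hpos this).symm
  let bP : Module.Basis (Fin 1) R P := Module.finBasisOfFinrankEq R P hrank
  set p0 : V := (bP 0 : V) with hp0
  have hspan : ∀ p ∈ P, ∃ c : R, p = c • p0 := by
    intro p hp
    refine ⟨bP.repr ⟨p, hp⟩ 0, ?_⟩
    have := bP.sum_repr ⟨p, hp⟩
    rw [Fin.sum_univ_one] at this
    have := congrArg Subtype.val this
    rw [Submodule.coe_smul] at this
    exact this.symm
  -- the intertwiner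
  let θ : V →ₗ[R] V :=
    { toFun := fun v => ρ (E v) p0
      map_add' := fun v w => by rw [map_add, map_add, LinearMap.add_apply]
      map_smul' := fun c v => by
        rw [map_smul, map_smul, LinearMap.smul_apply, RingHom.id_apply] }
  have hθ : ∀ v, θ v = ρ (E v) p0 := fun _ => rfl
  have hinter : ∀ (f : Module.End R V) (v : V), θ (f v) = ρ f (θ v) := by
    intro f v
    rw [hθ, hθ, ← I1, map_mul, Module.End.mul_apply]
  have hsurj : Function.Surjective θ := by
    intro w
    choose c hc using fun j => hspan _ (hGP j w)
    refine ⟨∑ j, c j • b j, ?_⟩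
    rw [map_sum]
    conv_rhs => rw [← hsumV w]
    refine Finset.sum_congr rfl fun j _ => ?_
    rw [map_smul, hθ, hc j, map_smul]
  have hinj : Function.Injective θ := OrzechProperty.injective_of_surjective_endomorphism θ hsurj
  exact ⟨LinearEquiv.ofBijective θ ⟨hinj, hsurj⟩, hinter⟩

end Groth.Agent.Lib.Helper85
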