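import Groth.Agent.Lib.Helper96.SigmaLinBasis
import Groth.Agent.Lib.Helper96.SigmaLinFrob

/-!
# Powers of the Frobenius satisfy the solvability hypotheses of helper96's SigmaLin library
-/

set_option autoImplicit false

namespace Groth.Agent.Lib.Helper85

open Polynomial Groth.Agent.Lib.Helper96.SigmaLin

universe u

variable (p : ℕ) [Fact p.Prime] (k : Type u) [Field k] [CharP k p] [IsAlgClosed k]

omit [IsAlgClosed k] in
theorem iterate_iterateFrobenius (ν j : ℕ) (x : k) :
    (⇑(iterateFrobenius k p ν))^[j] x = x ^ (p ^ ν) ^ j := by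
  induction j generalizing x with
  | zero => simp
  | succ j ih =>
    rw [Function.iterate_succ_apply', ih, iterateFrobenius_def, ← pow_mul, pow_succ]

theorem hyp3_iterateFrobenius (ν : ℕ) (hν : 1 ≤ ν) : Hyp3 (iterateFrobenius k p ν) := by
  intro c
  have hp : p.Prime := Fact.out
  have hq : 2 ≤ p ^ ν := by
    calc 2 ≤ p := hp.two_le
      _ = p ^ 1 := (pow_one p).symm
      _ ≤ p ^ ν := Nat.pow_le_pow_right hp.pos hν
  have hdeg : (X ^ (p ^ ν) - X + C c : k[X]).degree ≠ 0 := by
    have h1 : (X ^ (p ^ ν) - X + C c : k[X]) = X ^ (p ^ ν) - (X - C c) := by ring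
    have h2 : (X - C c : k[X]).degree < (X ^ (p ^ ν) : k[X]).degree := by
      rw [degree_X_sub_C, degree_X_pow]
      exact_mod_cast hq
    rw [h1, degree_sub_eq_left_of_degree_lt h2, degree_X_pow]
    have : p ^ ν ≠ 0 := by omega
    exact_mod_cast this
  obtain ⟨y, hy⟩ := IsAlgClosed.exists_root _ hdeg
  refine ⟨y, ?_⟩
  simpa [iterateFrobenius_def] using hy

theorem hyp2_iterateFrobenius (ν : ℕ) (hν : 1 ≤ ν) : Hyp2 (iterateFrobenius k p ν) := by
  classical
  intro n b hb
  have hp : p.Prime := Fact.out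
  set q := p ^ ν with hq_def
  have hq : 2 ≤ q := by
    calc 2 ≤ p := hp.two_le
      _ = p ^ 1 := (pow_one p).symm
      _ ≤ p ^ ν := Nat.pow_le_pow_right hp.pos hν
  set σ : k →+* k := iterateFrobenius k p ν with hσ
  let c : Fin (n + 1) → k := fun i => (⇑σ)^[i.val] (b (Fin.rev i))
  obtain ⟨j0, hj0⟩ : ∃ j, b j ≠ 0 := by
    by_contra h
    push Not at h
    exact hb (funext h)
  have hc0 : c (Fin.rev j0) ≠ 0 := by
    simp only [c, Fin.rev_rev]
    intro h
    apply hj0
    apply iterate_injective_of_ringHom k σ (Fin.rev j0).val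
    rw [h, iterate_map_zero]
  set i0 := Fin.rev j0
  let Q : k[X] := ∑ i : Fin (n + 1), C (c i) * X ^ (q ^ (i.val + 1))
  let P : k[X] := Q - X
  have hpow_inj : ∀ a b' : ℕ, q ^ a = q ^ b' → a = b' := fun a b' h =>
    Nat.pow_right_injective hq h
  have hqpow : ∀ a : ℕ, 2 ≤ q ^ (a + 1) := fun a =>
    calc 2 ≤ q := hq
      _ = q ^ 1 := (pow_one q).symm
      _ ≤ q ^ (a + 1) := Nat.pow_le_pow_right (by omega) (by omega)
  have hQ1 : Q.coeff 1 = 0 := by
    simp only [Q, finsetSum_coeff, coeff_C_mul, coeff_X_pow]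
    refine Finset.sum_eq_zero fun i _ => ?_
    rw [if_neg, mul_zero]
    have := hqpow i.val
    omega
  have hQi0 : Q.coeff (q ^ (i0.val + 1)) = c i0 := by
    simp only [Q, finsetSum_coeff, coeff_C_mul, coeff_X_pow]
    rw [Finset.sum_eq_single i0]
    · simp
    · intro i _ hi
      rw [if_neg, mul_zero]
      intro h
      have h' := hpow_inj _ _ h
      apply hi
      apply Fin.ext
      omega
    · intro h; exact absurd (Finset.mem_univ _) h
  have hP1 : P.coeff 1 ≠ 0 := by
    simp only [P, coeff_sub, hQ1, coeff_X_one]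
    simp
  have hPi0 : P.coeff (q ^ (i0.val + 1)) ≠ 0 := by
    simp only [P, coeff_sub, hQi0, coeff_X]
    rw [if_neg]
    · simpa using hc0
    · have := hqpow i0.val
      omega
  have hne : (1 : ℕ) ≠ q ^ (i0.val + 1) := by
    have := hqpow i0.val
    omega
  obtain ⟨z, hz0, hz⟩ := exists_root_ne_zero_of_two_coeff P hne hP1 hPi0
  have hz' : z = ∑ i : Fin (n + 1), c i * z ^ (q ^ (i.val + 1)) := by
    simp only [P, Q, eval_sub, eval_pow, eval_X, eval_finsetSum, eval_mul, eval_C] at hz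
    exact (sub_eq_zero.mp hz).symm
  refine ⟨z, hz0, ?_⟩
  conv_lhs => rw [hz']
  refine Finset.sum_congr rfl fun i _ => ?_
  rw [iterate_iterateFrobenius p k ν (i.val + 1) z, mul_comm]

end Groth.Agent.Lib.Helper85
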