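import Mathlib

/-!
# The Krull–Akizuki theorem (helper85)

`R` a one-dimensional Noetherian domain, `A` an `R`-algebra which is torsion-free of "finite rank"
over `R` and algebraic over `R`.  Then `A` is a Noetherian ring.  We follow Akizuki's original
argument (cf. Kaplansky, Theorem 93), which avoids lengths.
-/

set_option autoImplicit false
set_option linter.style.haveILetI false
set_option linter.unusedSectionVars false
universe u v

namespace Groth.Agent.Lib.Helper85.KrullAkizuki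

open Pointwise

variable {R : Type u} [CommRing R] [IsDomain R] [IsNoetherianRing R] [Ring.KrullDimLE 1 R]

theorem isArtinian_quotient_span_singleton {c : R} (hc : c ≠ 0) :
    IsArtinian R (R ⧸ Ideal.span {c}) :=
  ((isFiniteLength_iff_isNoetherian_isArtinian).mp
    (isFiniteLength_quotient_span_singleton R (mem_nonZeroDivisors_of_ne_zero hc))).2

theorem isArtinianRing_quotient_span_singleton {c : R} (hc : c ≠ 0) :
    IsArtinianRing (R ⧸ Ideal.span {c}) :=
  isArtinian_of_tower R (isArtinian_quotient_span_singleton hc)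

/-- step 1: stabilisation of `a^n R + c R` -/
theorem exists_pow_eq (a : R) {c : R} (hc : c ≠ 0) :
    ∃ (m : ℕ) (r s : R), a ^ m = a ^ (m + 1) * r + c * s := by
  haveI := isArtinian_quotient_span_singleton hc
  obtain ⟨n, y, hy⟩ := IsArtinian.exists_pow_succ_smul_dvd a (1 : R ⧸ Ideal.span {c})
  obtain ⟨r, rfl⟩ := Ideal.Quotient.mk_surjective y
  have h1 : (Ideal.Quotient.mk (Ideal.span {c})) (a ^ (n + 1) * r)
      = (Ideal.Quotient.mk (Ideal.span {c})) (a ^ n) := by
    have e1 : a ^ (n + 1) • (Ideal.Quotient.mk (Ideal.span {c})) r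
        = (Ideal.Quotient.mk (Ideal.span {c})) (a ^ (n + 1) * r) := by
      rfl
    have e2 : a ^ n • (1 : R ⧸ Ideal.span {c}) = (Ideal.Quotient.mk (Ideal.span {c})) (a ^ n) := by
      have : (1 : R ⧸ Ideal.span {c}) = (Ideal.Quotient.mk (Ideal.span {c})) 1 := rfl
      rw [this]
      conv_rhs => rw [← mul_one (a ^ n)]
      rfl
    rw [← e1, ← e2]
    exact hy
  rw [Ideal.Quotient.eq, Ideal.mem_span_singleton] at h1
  obtain ⟨s, hs⟩ := h1
  refine ⟨n, r, -s, ?_⟩
  linear_combination -hs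

variable {A : Type v} [CommRing A] [Algebra R A]

/-- the `R`-submodule `a^n A` of `A` -/
def powSub (a : R) (n : ℕ) : Submodule R A := (a ^ n) • (⊤ : Submodule R A)

theorem mem_powSub {a : R} {n : ℕ} {x : A} : x ∈ powSub (A := A) a n ↔ ∃ t : A, x = a ^ n • t := by
  unfold powSub
  rw [Submodule.mem_smul_pointwise_iff_exists]
  constructor
  · rintro ⟨t, -, rfl⟩; exact ⟨t, rfl⟩
  · rintro ⟨t, rfl⟩; exact ⟨t, trivial, rfl⟩

theorem powSub_antitone (a : R) : Antitone (powSub (A := A) a) := by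
  refine antitone_nat_of_succ_le fun n => ?_
  intro x hx
  rw [mem_powSub] at hx ⊢
  obtain ⟨t, rfl⟩ := hx
  exact ⟨a • t, by rw [pow_succ, mul_smul]⟩

/-- step 2: stabilisation of `(a^n A ∩ E) + a E` -/
theorem exists_stab {a : R} (ha : a ≠ 0) (E : Submodule R A) (hE : E.FG) :
    ∃ N : ℕ, ∀ m, N ≤ m → ∀ e ∈ E, e ∈ powSub (A := A) a m →
      ∃ e'' ∈ E, ∃ e' ∈ E, e'' ∈ powSub (A := A) a (m + 1) ∧ e = e'' + a • e' := by
  haveI : Module.Finite R E := Module.Finite.iff_fg.mpr hE
  set I : Ideal R := Ideal.span {a} with hI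
  haveI : IsArtinianRing (R ⧸ I) := isArtinianRing_quotient_span_singleton ha
  haveI : IsArtinian (R ⧸ I) (E ⧸ (I • ⊤ : Submodule R E)) := inferInstance
  haveI : IsArtinian R (E ⧸ (I • ⊤ : Submodule R E)) :=
    isArtinian_of_surjective_algebraMap (R := R ⧸ I) (M := E ⧸ (I • ⊤ : Submodule R E)) (S := R)
      Ideal.Quotient.mk_surjective
  let f : ℕ →o (Submodule R (E ⧸ (I • ⊤ : Submodule R E)))ᵒᵈ :=
    { toFun := fun n => OrderDual.toDual
        (Submodule.map (I • ⊤ : Submodule R E).mkQ (Submodule.comap E.subtype (powSub a n)))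
      monotone' := by
        intro n m hnm
        show Submodule.map _ (Submodule.comap E.subtype (powSub a m)) ≤
          Submodule.map _ (Submodule.comap E.subtype (powSub a n))
        exact Submodule.map_mono (Submodule.comap_mono (powSub_antitone a hnm)) }
  obtain ⟨N, hN⟩ := IsArtinian.monotone_stabilizes f
  refine ⟨N, fun m hm e he hem => ?_⟩
  have h1 : f m = f (m + 1) := by rw [← hN m hm, ← hN (m + 1) (by omega)]
  have h2 : (I • ⊤ : Submodule R E).mkQ ⟨e, he⟩ ∈
      Submodule.map (I • ⊤ : Submodule R E).mkQ (Submodule.comap E.subtype (powSub a m)) :=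
    Submodule.mem_map_of_mem hem
  have h3 : Submodule.map (I • ⊤ : Submodule R E).mkQ (Submodule.comap E.subtype (powSub a m))
      = Submodule.map (I • ⊤ : Submodule R E).mkQ
        (Submodule.comap E.subtype (powSub a (m + 1))) := congrArg OrderDual.ofDual h1
  rw [h3] at h2
  obtain ⟨⟨e'', he''⟩, he''m, hq⟩ := h2
  have h4 : (⟨e, he⟩ : E) - ⟨e'', he''⟩ ∈ (I • ⊤ : Submodule R E) := by
    rw [← Submodule.Quotient.eq]
    exact hq.symm
  rw [hI, Submodule.ideal_span_singleton_smul, Submodule.mem_smul_pointwise_iff_exists] at h4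
  obtain ⟨⟨e', he'⟩, -, h5⟩ := h4
  refine ⟨e'', he'', e', he', he''m, ?_⟩
  have h6 := congrArg Subtype.val h5
  simp only [Submodule.coe_smul, Submodule.coe_sub] at h6
  rw [h6]; abel

/-- the relation `a^m t ∈ a^(m+1) A + E` -/
def Rel (a : R) (E : Submodule R A) (t : A) (m : ℕ) : Prop :=
  ∃ t' : A, ∃ e ∈ E, a ^ m • t = a ^ (m + 1) • t' + e

theorem Rel.succ {a : R} {E : Submodule R A} {t : A} {m : ℕ} (h : Rel a E t m) :
    Rel a E t (m + 1) := by
  obtain ⟨t', e, he, h⟩ := h
  refine ⟨t', a • e, E.smul_mem a he, ?_⟩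
  rw [pow_succ' a m, mul_smul, h, smul_add, ← mul_smul, ← pow_succ']

theorem Rel.add {a : R} {E : Submodule R A} {t : A} {m : ℕ} (h : Rel a E t m) (k : ℕ) :
    Rel a E t (m + k) := by
  induction k with
  | zero => exact h
  | succ k ih => exact ih.succ

/-- the descent step -/
theorem Rel.pred {a : R} (ha : a ≠ 0)
    (hcancel : ∀ c : R, c ≠ 0 → ∀ x : A, c • x = 0 → x = 0)
    {E : Submodule R A} {t : A} {m : ℕ}
    (hstab : ∀ e ∈ E, e ∈ powSub (A := A) a (m + 1) →
      ∃ e'' ∈ E, ∃ e' ∈ E, e'' ∈ powSub (A := A) a (m + 1 + 1) ∧ e = e'' + a • e')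
    (h : Rel a E t (m + 1)) : Rel a E t m := by
  obtain ⟨t', e, he, h⟩ := h
  have hem : e ∈ powSub (A := A) a (m + 1) := by
    rw [mem_powSub]
    refine ⟨t - a • t', ?_⟩
    rw [smul_sub, ← mul_smul, ← pow_succ, h]; abel
  obtain ⟨e'', he'', e', he', he''m, hsplit⟩ := hstab e he hem
  rw [mem_powSub] at he''m
  obtain ⟨t'', ht''⟩ := he''m
  refine ⟨t' + t'', e', he', ?_⟩
  have key : a • (a ^ m • t - (a ^ (m + 1) • (t' + t'') + e')) = 0 := by
    have e1 : a • (a ^ m • t) = a ^ (m + 1) • t := by rw [← mul_smul, ← pow_succ']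
    have e2 : a • (a ^ (m + 1) • (t' + t'')) = a ^ (m + 1 + 1) • t' + a ^ (m + 1 + 1) • t'' := by
      rw [← mul_smul, ← pow_succ', smul_add]
    rw [smul_sub, smul_add, e1, e2, h, hsplit, ht'']
    abel
  exact sub_eq_zero.mp (hcancel a ha _ key)

/-- step 3: every `t` satisfies `a^N t ∈ a^(N+1) A + E` for a uniform `N` -/
theorem exists_uniform {a : R} (ha : a ≠ 0)
    (hcancel : ∀ c : R, c ≠ 0 → ∀ x : A, c • x = 0 → x = 0)
    (E : Submodule R A) (hE : E.FG) (hrank : ∀ t : A, ∃ c : R, c ≠ 0 ∧ c • t ∈ E) :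
    ∃ N : ℕ, ∀ t : A, Rel a E t N := by
  obtain ⟨N, hN⟩ := exists_stab ha E hE
  refine ⟨N, fun t => ?_⟩
  obtain ⟨c, hc, hct⟩ := hrank t
  obtain ⟨m, r, s, hm⟩ := exists_pow_eq a hc
  have hP : Rel a E t m := by
    refine ⟨r • t, s • (c • t), E.smul_mem s hct, ?_⟩
    rw [hm, add_smul, mul_smul, mul_smul, smul_comm c s t]
  have hdesc : ∀ k : ℕ, Rel a E t (N + k) → Rel a E t N := by
    intro k
    induction k with
    | zero => exact id
    | succ k ih =>
        intro h
        exact ih (Rel.pred ha hcancel (hN (N + k + 1) (by omega)) h)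
  have h1 : Rel a E t (m + N) := hP.add N
  rw [Nat.add_comm] at h1
  exact hdesc m h1

/-- step 4: `A / aA` is a finite `R`-module -/
theorem finite_quotient {a : R} (ha : a ≠ 0)
    (hcancel : ∀ c : R, c ≠ 0 → ∀ x : A, c • x = 0 → x = 0)
    (E : Submodule R A) (hE : E.FG) (hrank : ∀ t : A, ∃ c : R, c ≠ 0 ∧ c • t ∈ E) :
    Module.Finite R (A ⧸ (Ideal.span {algebraMap R A a} : Ideal A)) := by
  obtain ⟨N, hN⟩ := exists_uniform ha hcancel E hE hrank
  -- `T = {t | a^N t ∈ E}` is a Noetherian `R`-module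
  let φ : A →ₗ[R] A := DistribSMul.toLinearMap R A (a ^ N)
  have hφ : ∀ x, φ x = a ^ N • x := fun x => rfl
  have hφinj : Function.Injective φ := by
    rw [injective_iff_map_eq_zero]
    intro x hx
    exact hcancel (a ^ N) (pow_ne_zero _ ha) x hx
  let T : Submodule R A := Submodule.comap φ E
  haveI : IsNoetherian R E := isNoetherian_of_fg_of_noetherian E hE
  let ψ : T →ₗ[R] E := (φ.restrict (p := T) (q := E) fun x hx => hx)
  have hψinj : Function.Injective ψ := by
    intro x y hxy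
    apply Subtype.ext
    apply hφinj
    exact congrArg Subtype.val hxy
  haveI : IsNoetherian R T := isNoetherian_of_injective ψ hψinj
  -- the map `T → A / aA` is surjective
  let q : A →ₗ[R] (A ⧸ (Ideal.span {algebraMap R A a} : Ideal A)) :=
    ((Ideal.span {algebraMap R A a} : Ideal A).mkQ).restrictScalars R
  have hsurj : Function.Surjective (q.comp T.subtype) := by
    intro y
    obtain ⟨t, rfl⟩ := Submodule.Quotient.mk_surjective _ y
    obtain ⟨t', e, he, h⟩ := hN t
    have hmem : t - a • t' ∈ T := by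
      show φ (t - a • t') ∈ E
      rw [hφ, smul_sub, ← mul_smul, ← pow_succ, h]
      simpa using he
    refine ⟨⟨t - a • t', hmem⟩, ?_⟩
    show Submodule.Quotient.mk (t - a • t') = Submodule.Quotient.mk t
    rw [Submodule.Quotient.eq]
    have : t - a • t' - t = -(algebraMap R A a * t') := by rw [Algebra.smul_def]; abel
    rw [this]
    exact Submodule.neg_mem _ (Ideal.mul_mem_right _ _ (Ideal.subset_span rfl))
  exact Module.Finite.of_surjective (q.comp T.subtype) hsurj

/-- **Krull–Akizuki** (abstract form) -/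
theorem isNoetherianRing
    (hcancel : ∀ c : R, c ≠ 0 → ∀ x : A, c • x = 0 → x = 0)
    (E : Submodule R A) (hE : E.FG) (hrank : ∀ t : A, ∃ c : R, c ≠ 0 ∧ c • t ∈ E)
    (halg : ∀ b : A, b ≠ 0 → ∃ a : R, a ≠ 0 ∧ b ∣ algebraMap R A a) :
    IsNoetherianRing A := by
  rw [isNoetherianRing_iff_ideal_fg]
  intro J
  by_cases hJ : J = ⊥
  · rw [hJ]; exact Submodule.fg_bot
  obtain ⟨b, hbJ, hb0⟩ := Submodule.exists_mem_ne_zero_of_ne_bot hJ
  obtain ⟨a, ha, hdvd⟩ := halg b hb0
  have haJ : algebraMap R A a ∈ J := J.mem_of_dvd hdvd hbJ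
  set P : Ideal A := Ideal.span {algebraMap R A a} with hP
  haveI : Module.Finite R (A ⧸ P) := finite_quotient ha hcancel E hE hrank
  haveI : IsNoetherian R (A ⧸ P) := inferInstance
  refine Submodule.fg_of_fg_map_of_fg_inf_ker P.mkQ ?_ ?_
  · apply Submodule.FG.of_restrictScalars R
    exact IsNoetherian.noetherian _
  · rw [Submodule.ker_mkQ]
    have : J ⊓ P = P := inf_eq_right.mpr ((Ideal.span_singleton_le_iff_mem _).mpr haJ)
    rw [this]
    exact ⟨{algebraMap R A a}, by simp [hP]⟩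

end Groth.Agent.Lib.Helper85.KrullAkizuki
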