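import Mathlib.RingTheory.LocalRing.LocalSubring
import Mathlib.RingTheory.Ideal.Maps
import Mathlib.RingTheory.Spectrum.Prime.Basic
import Mathlib.RingTheory.Localization.AtPrime.Basic

/-!
# API for `LocalSubring.ofPrime` (helper85)
-/

set_option autoImplicit false
universe u

namespace Groth.Agent.Lib.Helper85

open IsLocalRing

variable {K : Type u} [Field K]

namespace LocalSubringAux

theorem ofPrime_congr (E : Subring K) {P P' : Ideal E} [hP : P.IsPrime] [hP' : P'.IsPrime]
    (h : P = P') : LocalSubring.ofPrime E P = LocalSubring.ofPrime E P' := by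
  subst h
  rfl

/-- Elements of `E_P` are fractions `a / s` with `s ∉ P`. -/
theorem exists_mul_eq_of_mem_ofPrime (E : Subring K) (P : Ideal E) [P.IsPrime] {y : K}
    (hy : y ∈ (LocalSubring.ofPrime E P).toSubring) :
    ∃ (a s : E), s ∉ P ∧ y * (s : K) = (a : K) := by
  obtain ⟨⟨a, s⟩, h⟩ := IsLocalization.surj (M := P.primeCompl)
    (⟨y, hy⟩ : (LocalSubring.ofPrime E P).toSubring)
  refine ⟨a, s.1, s.2, ?_⟩
  have := congrArg (Subtype.val) h
  exact this

/-- For `s ∉ P`, the inverse of `s` lies in `E_P`. -/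
theorem inv_mem_ofPrime (E : Subring K) (P : Ideal E) [P.IsPrime] {s : E} (hs : s ∉ P) :
    ((s : K))⁻¹ ∈ (LocalSubring.ofPrime E P).toSubring := by
  have hu : IsUnit (algebraMap E (LocalSubring.ofPrime E P).toSubring s) :=
    IsLocalization.map_units (M := P.primeCompl) _ ⟨s, hs⟩
  obtain ⟨u, hu⟩ := hu
  have h1 : ((u : (LocalSubring.ofPrime E P).toSubring) : K) = (s : K) := by
    rw [hu]; rfl
  have h2 : ((u : (LocalSubring.ofPrime E P).toSubring) : K) *
      ((↑u⁻¹ : (LocalSubring.ofPrime E P).toSubring) : K) = 1 := by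
    have := congrArg Subtype.val (u.mul_inv)
    exact this
  have h3 : ((s : K))⁻¹ = ((↑u⁻¹ : (LocalSubring.ofPrime E P).toSubring) : K) := by
    rw [← h1]
    exact inv_eq_of_mul_eq_one_right h2
  rw [h3]
  exact Subtype.property _

/-- A unit of a subring of a field has its field inverse in the subring. -/
theorem inv_mem_of_isUnit (Q : Subring K) {x : Q} (hx : IsUnit x) : ((x : K))⁻¹ ∈ Q := by
  obtain ⟨u, rfl⟩ := hx
  have h2 : ((u : Q) : K) * ((↑u⁻¹ : Q) : K) = 1 := by
    have := congrArg Subtype.val (u.mul_inv)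
    exact this
  rw [inv_eq_of_mul_eq_one_right h2]
  exact Subtype.property _

theorem isUnit_of_inv_mem (Q : Subring K) {x : Q} (hx0 : (x : K) ≠ 0) (hx : ((x : K))⁻¹ ∈ Q) :
    IsUnit x := by
  refine ⟨⟨x, ⟨_, hx⟩, ?_, ?_⟩, rfl⟩
  · ext; simp [hx0]
  · ext; simp [hx0]

/-- (L1) The localization of `E` at the trace of the maximal ideal of a local subring `Q ⊇ E` is
dominated by `Q`. -/
theorem ofPrime_comap_maximalIdeal_le (Q : LocalSubring K) (E : Subring K)
    (hE : E ≤ Q.toSubring) :
    LocalSubring.ofPrime E ((maximalIdeal Q.toSubring).comap (Subring.inclusion hE)) ≤ Q := by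
  set P := (maximalIdeal Q.toSubring).comap (Subring.inclusion hE) with hP
  have hunit : ∀ s : E, s ∉ P → IsUnit (Subring.inclusion hE s) := by
    intro s hs
    by_contra hnu
    exact hs ((mem_maximalIdeal _).mpr hnu)
  have hsub : (LocalSubring.ofPrime E P).toSubring ≤ Q.toSubring := by
    intro y hy
    obtain ⟨a, s, hs, hys⟩ := exists_mul_eq_of_mem_ofPrime E P hy
    have hsu := hunit s hs
    have hinv : ((s : K))⁻¹ ∈ Q.toSubring := inv_mem_of_isUnit Q.toSubring hsu
    have hs0 : (s : K) ≠ 0 := by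
      intro h0
      have : Subring.inclusion hE s = 0 := by ext; exact h0
      rw [this] at hsu
      exact not_isUnit_zero hsu
    have hy' : y = (a : K) * ((s : K))⁻¹ := by
      rw [← hys]; field_simp
    rw [hy']
    exact Q.toSubring.mul_mem (hE a.2) hinv
  refine ⟨hsub, ⟨fun y hyu => ?_⟩⟩
  obtain ⟨a, s, hs, hys⟩ := exists_mul_eq_of_mem_ofPrime E P y.2
  have hsu := hunit s hs
  have hau : IsUnit (Subring.inclusion hE a) := by
    have : Subring.inclusion hE a = Subring.inclusion hsub y * Subring.inclusion hE s := by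
      ext; exact hys.symm
    rw [this]
    exact hyu.mul hsu
  have haP : a ∉ P := by
    intro ha
    exact (mem_maximalIdeal _).mp ha hau
  have hy0 : (y : K) ≠ 0 := by
    intro h0
    have : Subring.inclusion hsub y = 0 := by ext; exact h0
    rw [this] at hyu
    exact not_isUnit_zero hyu
  have ha0 : (a : K) ≠ 0 := by
    intro h0
    have : Subring.inclusion hE a = 0 := by ext; exact h0
    rw [this] at hau
    exact not_isUnit_zero hau
  apply isUnit_of_inv_mem _ hy0
  have hs0 : (s : K) ≠ 0 := by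
    intro h0
    have : Subring.inclusion hE s = 0 := by ext; exact h0
    rw [this] at hsu
    exact not_isUnit_zero hsu
  have hyinv : ((y : K))⁻¹ = (s : K) * ((a : K))⁻¹ := by
    rw [← hys]
    field_simp
  rw [hyinv]
  exact Subring.mul_mem _ (LocalSubring.le_ofPrime E P s.2) (inv_mem_ofPrime E P haP)

/-- (L2) If `Q` dominates `E_P` then the trace of the maximal ideal of `Q` on `E` is `P`. -/
theorem comap_maximalIdeal_eq_of_ofPrime_le (E : Subring K) (P : Ideal E) [P.IsPrime]
    (Q : LocalSubring K) (hle : LocalSubring.ofPrime E P ≤ Q) (hE : E ≤ Q.toSubring) :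
    (maximalIdeal Q.toSubring).comap (Subring.inclusion hE) = P := by
  obtain ⟨hsub, hloc⟩ := hle
  ext e
  rw [Ideal.mem_comap, mem_maximalIdeal, mem_nonunits_iff]
  have h1 : IsUnit (algebraMap E (LocalSubring.ofPrime E P).toSubring e) ↔ e ∈ P.primeCompl :=
    IsLocalization.AtPrime.isUnit_to_map_iff _ P e
  have h2 : IsUnit (Subring.inclusion hE e) ↔
      IsUnit (algebraMap E (LocalSubring.ofPrime E P).toSubring e) := by
    have heq : Subring.inclusion hE e =
        Subring.inclusion hsub (algebraMap E (LocalSubring.ofPrime E P).toSubring e) := rfl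
    rw [heq]
    constructor
    · intro h; exact hloc.map_nonunit _ h
    · intro h; exact h.map _
  rw [h2, h1]
  simp [Ideal.primeCompl]

/-- (L3) The trace on `E` of the maximal ideal of `E_P` is `P`. -/
theorem comap_maximalIdeal_ofPrime (E : Subring K) (P : Ideal E) [P.IsPrime]
    (hE : E ≤ (LocalSubring.ofPrime E P).toSubring) :
    (maximalIdeal (LocalSubring.ofPrime E P).toSubring).comap (Subring.inclusion hE) = P :=
  comap_maximalIdeal_eq_of_ofPrime_le E P _ le_rfl hE

/-- (L4) Traces are transitive. -/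
theorem comap_comap_inclusion {A C Q : Subring K} (hAC : A ≤ C) (hCQ : C ≤ Q) (hAQ : A ≤ Q)
    (I : Ideal Q) :
    (I.comap (Subring.inclusion hCQ)).comap (Subring.inclusion hAC) =
      I.comap (Subring.inclusion hAQ) := by
  rw [Ideal.comap_comap]
  rfl

/-- (L5) If `C ⊇ A`, `r` is a prime of `C` and `C ⊆ A_{r ∩ A}`, then `C_r = A_{r ∩ A}`. -/
theorem ofPrime_eq_ofPrime_comap {A C : Subring K} (hAC : A ≤ C) (r : Ideal C) [r.IsPrime]
    (hC : C ≤ (LocalSubring.ofPrime A (r.comap (Subring.inclusion hAC))).toSubring) :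
    LocalSubring.ofPrime C r = LocalSubring.ofPrime A (r.comap (Subring.inclusion hAC)) := by
  set D := LocalSubring.ofPrime A (r.comap (Subring.inclusion hAC)) with hD
  set Q := LocalSubring.ofPrime C r with hQ
  have hCQ : C ≤ Q.toSubring := LocalSubring.le_ofPrime C r
  have hAQ : A ≤ Q.toSubring := hAC.trans hCQ
  have htrace : (maximalIdeal Q.toSubring).comap (Subring.inclusion hAQ) =
      r.comap (Subring.inclusion hAC) := by
    rw [← comap_comap_inclusion hAC hCQ hAQ, comap_maximalIdeal_ofPrime C r hCQ]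
  have hDQ : D ≤ Q := by
    have := ofPrime_comap_maximalIdeal_le Q A hAQ
    rwa [ofPrime_congr A htrace] at this
  obtain ⟨hsub, hloc⟩ := hDQ
  apply LocalSubring.toSubring_injective
  refine le_antisymm ?_ hsub
  intro y hy
  obtain ⟨c, c', hc', hyc⟩ := exists_mul_eq_of_mem_ofPrime C r hy
  have hinvQ : ((c' : K))⁻¹ ∈ Q.toSubring := inv_mem_ofPrime C r hc'
  have hc'0 : (c' : K) ≠ 0 := by
    intro h0
    apply hc'
    have : c' = 0 := by ext; exact h0
    rw [this]; exact Ideal.zero_mem _
  -- `c'` is a unit of `D` since `D → Q` is local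
  have hunitD : IsUnit (⟨(c' : K), hC c'.2⟩ : D.toSubring) := by
    apply hloc.map_nonunit
    apply isUnit_of_inv_mem Q.toSubring (x := Subring.inclusion hsub ⟨(c' : K), hC c'.2⟩) hc'0
    exact hinvQ
  have hinvD : ((c' : K))⁻¹ ∈ D.toSubring := inv_mem_of_isUnit D.toSubring hunitD
  have hy' : y = (c : K) * ((c' : K))⁻¹ := by
    rw [← hyc]; field_simp
  rw [hy']
  exact D.toSubring.mul_mem (hC c.2) hinvD

end LocalSubringAux

end Groth.Agent.Lib.Helper85
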