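import Groth.Agent.Lib.Helper85.MatrixUnits
import Groth.Agent.Lib.Helper85.FibreAlgHom
import Groth.Agent.Lib.Helper85.CSAField
import Mathlib.LinearAlgebra.Matrix.ToLin
import Mathlib.LinearAlgebra.Matrix.GeneralLinearGroup.Defs
import Mathlib.Algebra.Azumaya.Matrix
import Mathlib.LinearAlgebra.TensorProduct.Pi
import Mathlib.RingTheory.TensorProduct.Maps

/-!
# Automorphisms of matrix algebras versus `n`-torsion-free-ness of the Picard group (helper85)
-/

set_option autoImplicit false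
universe u

namespace Groth.Agent.Lib.Helper85

open scoped TensorProduct
open MatrixUnits

variable {R : Type u} [CommRing R] (n : ℕ)

/-- If every invertible module `N` with `N^n ≃ R^n` is free, then every algebra automorphism of
`M_n(R)` is inner. -/
theorem exists_GL_conj_of_pic (hn : 1 ≤ n)
    (H : ∀ (N : Type u) [AddCommGroup N] [Module R N] [Module.Invertible R N],
      Nonempty ((Fin n → N) ≃ₗ[R] (Fin n → R)) → Module.Free R N)
    (φ : Matrix (Fin n) (Fin n) R ≃ₐ[R] Matrix (Fin n) (Fin n) R) :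
    ∃ P : GL (Fin n) R, ∀ A : Matrix (Fin n) (Fin n) R, φ A = P.1 * A * (P⁻¹).1 := by
  classical
  let T : Matrix (Fin n) (Fin n) R ≃ₐ[R] Module.End R (Fin n → R) := Matrix.toLinAlgEquiv'
  let b : Module.Basis (Fin n) R (Fin n → R) := Pi.basisFun R (Fin n)
  let i0 : Fin n := ⟨0, hn⟩
  let ρe : Module.End R (Fin n → R) ≃ₐ[R] Module.End R (Fin n → R) := (T.symm.trans φ).trans T
  let ρ : Module.End R (Fin n → R) →ₐ[R] Module.End R (Fin n → R) := ρe
  have hρ : Function.Bijective ρ := ρe.bijective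
  have hρT : ∀ A, ρ (T A) = T (φ A) := by
    intro A
    change T (φ (T.symm (T A))) = _
    rw [T.symm_apply_apply]
  have hinv : Module.Invertible R (summand b i0 ρ) := summand_invertible b i0 ρ hρ
  have hfree : Module.Free R (summand b i0 ρ) :=
    H (summand b i0 ρ) ⟨(equivPi b i0 ρ).symm⟩
  obtain ⟨e⟩ := Module.Invertible.free_iff_linearEquiv.mp hfree
  set p0 : Fin n → R := ((e.symm 1 : summand b i0 ρ) : Fin n → R) with hp0
  have hspan : ∀ p ∈ summand b i0 ρ, ∃ c : R, p = c • p0 := by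
    intro p hp
    refine ⟨e ⟨p, hp⟩, ?_⟩
    have : (⟨p, hp⟩ : summand b i0 ρ) = e ⟨p, hp⟩ • e.symm 1 := by
      rw [← map_smul, smul_eq_mul, mul_one, e.symm_apply_apply]
    have := congrArg Subtype.val this
    rwa [Submodule.coe_smul] at this
  have hbij := intertwiner_bijective b i0 ρ hspan
  let θ : (Fin n → R) ≃ₗ[R] (Fin n → R) := LinearEquiv.ofBijective (intertwiner b i0 ρ p0) hbij
  have hθ : ∀ (f : Module.End R (Fin n → R)) v, θ (f v) = ρ f (θ v) :=
    fun f v => intertwiner_comm b i0 ρ p0 f v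
  let Pm : Matrix (Fin n) (Fin n) R := LinearMap.toMatrix' (θ : (Fin n → R) →ₗ[R] (Fin n → R))
  let Pi' : Matrix (Fin n) (Fin n) R :=
    LinearMap.toMatrix' (θ.symm : (Fin n → R) →ₗ[R] (Fin n → R))
  have h1 : Pm * Pi' = 1 := by
    rw [← LinearMap.toMatrix'_comp, ← LinearMap.toMatrix'_id]
    congr 1
    ext v
    simp
  have h2 : Pi' * Pm = 1 := by
    rw [← LinearMap.toMatrix'_comp, ← LinearMap.toMatrix'_id]
    congr 1
    ext v
    simp
  refine ⟨⟨Pm, Pi', h1, h2⟩, fun A => ?_⟩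
  change φ A = Pm * A * Pi'
  have hcomm : φ A * Pm = Pm * A := by
    have hlin : (T (φ A)) ∘ₗ (θ : (Fin n → R) →ₗ[R] (Fin n → R)) =
        (θ : (Fin n → R) →ₗ[R] (Fin n → R)) ∘ₗ (T A) := by
      ext v
      simp only [LinearMap.comp_apply, LinearEquiv.coe_coe]
      rw [hθ (T A) _, hρT]
    have := congrArg LinearMap.toMatrix' hlin
    have hT : ∀ M : Matrix (Fin n) (Fin n) R, LinearMap.toMatrix' (T M) = M :=
      fun M => LinearMap.toMatrix'_toLin' M
    rw [LinearMap.toMatrix'_comp, LinearMap.toMatrix'_comp, hT, hT] at this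
    exact this
  rw [← hcomm, mul_assoc, h1, mul_one]

/-- If every algebra automorphism of `M_n(R)` is inner, then every invertible module `N` with
`N^n ≃ R^n` is free. -/
theorem free_of_forall_inner (hn : 1 ≤ n)
    (H : ∀ φ : Matrix (Fin n) (Fin n) R ≃ₐ[R] Matrix (Fin n) (Fin n) R,
      ∃ P : GL (Fin n) R, ∀ A : Matrix (Fin n) (Fin n) R, φ A = P.1 * A * (P⁻¹).1)
    (N : Type u) [AddCommGroup N] [Module R N] [Module.Invertible R N]
    (e : (Fin n → N) ≃ₗ[R] (Fin n → R)) : Module.Free R N := by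
  classical
  let T : Matrix (Fin n) (Fin n) R ≃ₐ[R] Module.End R (Fin n → R) := Matrix.toLinAlgEquiv'
  let i0 : Fin n := ⟨0, hn⟩
  have hne : Nonempty (Fin n) := ⟨i0⟩
  let ê : N ⊗[R] (Fin n → R) ≃ₗ[R] (Fin n → R) :=
    (TensorProduct.piScalarRight R R N (Fin n)).trans e
  let ψ : Module.End R (Fin n → R) →ₐ[R] Module.End R (Fin n → R) :=
    ((ê.conjAlgEquiv R : Module.End R (N ⊗[R] (Fin n → R)) ≃ₐ[R] Module.End R (Fin n → R)) :
      Module.End R (N ⊗[R] (Fin n → R)) →ₐ[R] Module.End R (Fin n → R)).comp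
      (Module.End.lTensorAlgHom R (Fin n → R) N)
  have hψ : ∀ f, ψ f = ê.toLinearMap ∘ₗ (f.lTensor N) ∘ₗ ê.symm.toLinearMap := fun f => rfl
  let φ₀ : Matrix (Fin n) (Fin n) R →ₐ[R] Matrix (Fin n) (Fin n) R :=
    ((T.symm : Module.End R (Fin n → R) →ₐ[R] Matrix (Fin n) (Fin n) R).comp ψ).comp
      (T : Matrix (Fin n) (Fin n) R →ₐ[R] Module.End R (Fin n → R))
  have hφ₀ : ∀ A, T (φ₀ A) = ψ (T A) := by
    intro A
    change T (T.symm (ψ (T A))) = _
    rw [T.apply_symm_apply]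
  have hAz : IsAzumaya R (Matrix (Fin n) (Fin n) R) := IsAzumaya.matrix R (Fin n)
  have hbij : Function.Bijective φ₀ := by
    refine algHom_bijective_of_fibres R φ₀ fun p => ?_
    have hAzp : IsAzumaya p.asIdeal.ResidueField
        (p.asIdeal.ResidueField ⊗[R] Matrix (Fin n) (Fin n) R) :=
      isAzumaya_baseChange R p.asIdeal.ResidueField (Matrix (Fin n) (Fin n) R)
    have hs : IsSimpleRing (p.asIdeal.ResidueField ⊗[R] Matrix (Fin n) (Fin n) R) :=
      isSimpleRing_of_isAzumaya p.asIdeal.ResidueField _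
    exact ⟨hs, inferInstance, rfl⟩
  let φ : Matrix (Fin n) (Fin n) R ≃ₐ[R] Matrix (Fin n) (Fin n) R := AlgEquiv.ofBijective φ₀ hbij
  obtain ⟨Pm, hP⟩ := H φ
  -- the intertwiner
  let θ : N ⊗[R] (Fin n → R) →ₗ[R] (Fin n → R) := (T (Pm⁻¹).1) ∘ₗ ê.toLinearMap
  have hPP : T Pm.1 ∘ₗ T (Pm⁻¹).1 = LinearMap.id := by
    have : T (Pm.1 * (Pm⁻¹).1) = T 1 := by
      congr 1
      exact Units.mul_inv Pm
    rw [map_mul, map_one] at this
    exact this
  have hPP' : T (Pm⁻¹).1 ∘ₗ T Pm.1 = LinearMap.id := by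
    have : T ((Pm⁻¹).1 * Pm.1) = T 1 := by
      congr 1
      exact Units.inv_mul Pm
    rw [map_mul, map_one] at this
    exact this
  have hθsurj : Function.Surjective θ := by
    intro v
    refine ⟨ê.symm (T Pm.1 v), ?_⟩
    simp only [θ, LinearMap.comp_apply, LinearEquiv.coe_coe, ê.apply_symm_apply]
    exact LinearMap.congr_fun hPP' v
  have hθcomm : ∀ (f : Module.End R (Fin n → R)) (z : N ⊗[R] (Fin n → R)),
      θ (f.lTensor N z) = f (θ z) := by
    intro f z
    obtain ⟨A, rfl⟩ := T.surjective f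
    have h1 : T (φ A) = ψ (T A) := hφ₀ A
    have h2 : φ A = Pm.1 * A * (Pm⁻¹).1 := hP A
    rw [h2, map_mul, map_mul, hψ] at h1
    -- `T Pm ∘ T A ∘ T Pm⁻¹ = ê ∘ (T A ⊗ 1) ∘ ê⁻¹`
    have h3 := LinearMap.congr_fun h1 (ê z)
    simp only [Module.End.mul_apply, LinearMap.comp_apply, LinearEquiv.coe_coe,
      ê.symm_apply_apply] at h3
    -- apply `T Pm⁻¹`
    have h4 := congrArg (T (Pm⁻¹).1) h3
    rw [← LinearMap.comp_apply (T (Pm⁻¹).1) (T Pm.1), hPP', LinearMap.id_apply] at h4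
    simp only [θ, LinearMap.comp_apply, LinearEquiv.coe_coe]
    exact h4.symm
  -- the coordinate map `N → R`
  let e0 : Fin n → R := Pi.single i0 1
  let E : Module.End R (Fin n → R) := (LinearMap.proj i0 : (Fin n → R) →ₗ[R] R).smulRight e0
  have hE : ∀ v, E v = v i0 • e0 := fun v => rfl
  let α : N →ₗ[R] R := (LinearMap.proj i0 : (Fin n → R) →ₗ[R] R) ∘ₗ θ ∘ₗ
    (TensorProduct.mk R N (Fin n → R)).flip e0
  have hα : ∀ x, α x = θ (x ⊗ₜ[R] e0) i0 := fun x => rfl
  have hαsurj : Function.Surjective α := by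
    obtain ⟨z, hz⟩ := hθsurj e0
    have hz' : θ (E.lTensor N z) = e0 := by
      rw [hθcomm, hz, hE]
      simp [e0]
    have hform : ∀ z : N ⊗[R] (Fin n → R), ∃ x : N, E.lTensor N z = x ⊗ₜ[R] e0 := by
      intro z
      induction z using TensorProduct.induction_on with
      | zero => exact ⟨0, by simp⟩
      | add a c ha hc =>
        obtain ⟨x, hx⟩ := ha
        obtain ⟨y, hy⟩ := hc
        exact ⟨x + y, by rw [map_add, hx, hy, TensorProduct.add_tmul]⟩
      | tmul y v =>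
        exact ⟨v i0 • y, by rw [LinearMap.lTensor_tmul, hE, TensorProduct.tmul_smul,
          TensorProduct.smul_tmul']⟩
    obtain ⟨x, hx⟩ := hform z
    intro r
    refine ⟨r • x, ?_⟩
    rw [map_smul, hα, ← hx, hz']
    simp [e0]
  have hαbij : Function.Bijective α := Module.Invertible.bijective_of_surjective hαsurj
  exact Module.Free.of_equiv (LinearEquiv.ofBijective α hαbij).symm

end Groth.Agent.Lib.Helper85
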