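import Mathlib.RingTheory.OrzechProperty
import Mathlib.RingTheory.Noetherian.Orzech
import Mathlib.LinearAlgebra.FreeModule.Finite.Basic
import Mathlib.LinearAlgebra.Dimension.Constructions
import Mathlib.LinearAlgebra.Dimension.Free
import Mathlib.LinearAlgebra.FreeModule.StrongRankCondition
import Mathlib.Algebra.Module.Projective
import Mathlib.Algebra.Central.End
import Mathlib.LinearAlgebra.Contraction
import Mathlib.RingTheory.PicardGroup

/-!
# Matrix units and algebra endomorphisms of `End_R(V)` (helper85)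

Let `V` be a free module with a finite basis `b` over a commutative ring `R`, `i0` an index and
`ρ` an `R`-algebra endomorphism of `End_R(V)`.  The image `P` of the idempotent `ρ(E₀₀)` is a
finite projective module with `V ≃ P^ι`; if `P` is generated by one element then `ρ` is inner,
and if `ρ` is bijective then `P` is invertible.
-/

set_option autoImplicit false
set_option linter.unusedSectionVars false
universe u v w

namespace Groth.Agent.Lib.Helper85.MatrixUnits

open scoped BigOperators

variable {R : Type u} [CommRing R] {V : Type v} [AddCommGroup V] [Module R V]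
  {ι : Type w} [Fintype ι] [DecidableEq ι] (b : Module.Basis ι R V) (i0 : ι)

/-- the "column" operators `E v : w ↦ coord_{i0}(w) • v` -/
noncomputable def colOp : V →ₗ[R] Module.End R V where
  toFun v := (b.coord i0).smulRight v
  map_add' v w := by ext x; simp
  map_smul' c v := by
    ext x
    simp only [LinearMap.smulRight_apply, RingHom.id_apply, LinearMap.smul_apply]
    rw [smul_comm]

/-- the "row" operators `G j : w ↦ coord_j(w) • b i0` -/
noncomputable def rowOp (j : ι) : Module.End R V := (b.coord j).smulRight (b i0)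

theorem colOp_apply (v w : V) : colOp b i0 v w = b.coord i0 w • v := rfl

theorem rowOp_apply (j : ι) (w : V) : rowOp b i0 j w = b.coord j w • b i0 := rfl

theorem coord_basis (i j : ι) : b.coord j (b i) = if i = j then 1 else 0 := by
  rw [Module.Basis.coord_apply, Module.Basis.repr_self, Finsupp.single_apply]

theorem mul_colOp (f : Module.End R V) (v : V) : f * colOp b i0 v = colOp b i0 (f v) := by
  ext w
  rw [Module.End.mul_apply, colOp_apply, colOp_apply, map_smul]

theorem colOp_mul_rowOp (j : ι) : colOp b i0 (b i0) * rowOp b i0 j = rowOp b i0 j := by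
  ext w
  rw [Module.End.mul_apply, colOp_apply, rowOp_apply, map_smul, coord_basis, if_pos rfl,
    smul_eq_mul, mul_one]

theorem sum_colOp_mul_rowOp : ∑ j, colOp b i0 (b j) * rowOp b i0 j = 1 := by
  ext w
  rw [LinearMap.sum_apply, Module.End.one_apply]
  conv_rhs => rw [← b.sum_repr w]
  refine Finset.sum_congr rfl fun j _ => ?_
  rw [Module.End.mul_apply, colOp_apply, rowOp_apply, map_smul, coord_basis, if_pos rfl,
    smul_eq_mul, mul_one, Module.Basis.coord_apply]

theorem rowOp_mul_colOp (i j : ι) :
    rowOp b i0 j * colOp b i0 (b i) = if i = j then colOp b i0 (b i0) else 0 := by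
  ext w
  rw [Module.End.mul_apply, colOp_apply, rowOp_apply, map_smul, coord_basis]
  split_ifs with h
  · rw [colOp_apply, smul_eq_mul, mul_one]
  · rw [smul_eq_mul, mul_zero, zero_smul, LinearMap.zero_apply]

variable (ρ : Module.End R V →ₐ[R] Module.End R V)

/-- the idempotent `ρ(E₀₀)` -/
noncomputable def idem : Module.End R V := ρ (colOp b i0 (b i0))

theorem idem_mul_idem : idem b i0 ρ * idem b i0 ρ = idem b i0 ρ := by
  rw [idem, ← map_mul, mul_colOp, colOp_apply, coord_basis, if_pos rfl, one_smul]

/-- the summand `P = ρ(E₀₀) V` -/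
noncomputable def summand : Submodule R V := LinearMap.range (idem b i0 ρ)

theorem idem_apply_of_mem {p : V} (hp : p ∈ summand b i0 ρ) : idem b i0 ρ p = p := by
  obtain ⟨x, rfl⟩ := hp
  rw [← Module.End.mul_apply, idem_mul_idem]

theorem rowOp_mem (j : ι) (v : V) : ρ (rowOp b i0 j) v ∈ summand b i0 ρ := by
  refine ⟨ρ (rowOp b i0 j) v, ?_⟩
  rw [idem, ← Module.End.mul_apply, ← map_mul, colOp_mul_rowOp]

theorem sum_colOp_rowOp_apply (v : V) :
    ∑ j, ρ (colOp b i0 (b j)) (ρ (rowOp b i0 j) v) = v := by
  have : (∑ j, ρ (colOp b i0 (b j)) * ρ (rowOp b i0 j)) v = v := by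
    simp_rw [← map_mul]
    rw [← map_sum, sum_colOp_mul_rowOp, map_one, Module.End.one_apply]
  rw [LinearMap.sum_apply] at this
  exact this

theorem rowOp_colOp_apply (i j : ι) {p : V} (hp : p ∈ summand b i0 ρ) :
    ρ (rowOp b i0 j) (ρ (colOp b i0 (b i)) p) = if i = j then p else 0 := by
  rw [← Module.End.mul_apply, ← map_mul, rowOp_mul_colOp]
  split_ifs with h
  · exact idem_apply_of_mem b i0 ρ hp
  · rw [map_zero, LinearMap.zero_apply]

/-- `V → P^ι` -/
noncomputable def toPi : V →ₗ[R] (ι → summand b i0 ρ) :=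
  LinearMap.pi fun j => (ρ (rowOp b i0 j)).codRestrict (summand b i0 ρ) (rowOp_mem b i0 ρ j)

/-- `P^ι → V` -/
noncomputable def ofPi : (ι → summand b i0 ρ) →ₗ[R] V :=
  ∑ j, (ρ (colOp b i0 (b j))) ∘ₗ (summand b i0 ρ).subtype ∘ₗ LinearMap.proj j

theorem ofPi_comp_toPi : ofPi b i0 ρ ∘ₗ toPi b i0 ρ = LinearMap.id := by
  ext v
  simp only [ofPi, toPi, LinearMap.comp_apply, LinearMap.sum_apply, LinearMap.proj_apply,
    LinearMap.pi_apply, Submodule.subtype_apply, LinearMap.codRestrict_apply,
    LinearMap.id_apply]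
  exact sum_colOp_rowOp_apply b i0 ρ v

theorem toPi_comp_ofPi : toPi b i0 ρ ∘ₗ ofPi b i0 ρ = LinearMap.id := by
  refine LinearMap.ext fun p => funext fun j => Subtype.ext ?_
  simp only [ofPi, toPi, LinearMap.comp_apply, LinearMap.sum_apply, LinearMap.proj_apply,
    LinearMap.pi_apply, Submodule.subtype_apply, LinearMap.id_apply, map_sum]
  rw [Submodule.coe_sum]
  simp only [LinearMap.codRestrict_apply]
  simp_rw [fun i => rowOp_colOp_apply b i0 ρ i j (p i).2]
  rw [Finset.sum_ite_eq' Finset.univ j]
  simp

/-- `V ≃ P^ι` -/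
noncomputable def equivPi : V ≃ₗ[R] (ι → summand b i0 ρ) :=
  LinearEquiv.ofLinearMap (toPi b i0 ρ) (ofPi b i0 ρ) (toPi_comp_ofPi b i0 ρ)
    (ofPi_comp_toPi b i0 ρ)

include b in
theorem finite_V : Module.Finite R V := Module.Finite.of_basis b

theorem summand_finite : Module.Finite R (summand b i0 ρ) := by
  have := finite_V b
  exact Module.Finite.range (idem b i0 ρ)

theorem summand_projective : Module.Projective R (summand b i0 ρ) := by
  have : Module.Free R V := Module.Free.of_basis b
  exact Module.Projective.of_split (summand b i0 ρ).subtype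
    ((idem b i0 ρ).codRestrict (summand b i0 ρ) fun v => ⟨v, rfl⟩) (by
      ext p
      simp only [LinearMap.comp_apply, Submodule.subtype_apply, LinearMap.id_apply]
      exact idem_apply_of_mem b i0 ρ p.2)

/-- the candidate intertwiner attached to `p0` -/
noncomputable def intertwiner (p0 : V) : V →ₗ[R] V where
  toFun v := ρ (colOp b i0 v) p0
  map_add' v w := by rw [map_add, map_add, LinearMap.add_apply]
  map_smul' c v := by rw [map_smul, map_smul, LinearMap.smul_apply, RingHom.id_apply]

theorem intertwiner_apply (p0 v : V) : intertwiner b i0 ρ p0 v = ρ (colOp b i0 v) p0 := rfl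

theorem intertwiner_comm (p0 : V) (f : Module.End R V) (v : V) :
    intertwiner b i0 ρ p0 (f v) = ρ f (intertwiner b i0 ρ p0 v) := by
  rw [intertwiner_apply, intertwiner_apply, ← mul_colOp, map_mul, Module.End.mul_apply]

theorem intertwiner_bijective {p0 : V}
    (hspan : ∀ p ∈ summand b i0 ρ, ∃ c : R, p = c • p0) :
    Function.Bijective (intertwiner b i0 ρ p0) := by
  have := finite_V b
  have hsurj : Function.Surjective (intertwiner b i0 ρ p0) := by
    intro w
    choose c hc using fun j => hspan _ (rowOp_mem b i0 ρ j w)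
    refine ⟨∑ j, c j • b j, ?_⟩
    rw [map_sum]
    conv_rhs => rw [← sum_colOp_rowOp_apply b i0 ρ w]
    refine Finset.sum_congr rfl fun j _ => ?_
    rw [map_smul, intertwiner_apply, hc j, map_smul]
  exact ⟨OrzechProperty.injective_of_surjective_endomorphism _ hsurj, hsurj⟩

theorem rowOp_mul (k : ι) (f : Module.End R V) :
    rowOp b i0 k * f = ∑ j, b.coord k (f (b j)) • rowOp b i0 j := by
  ext w
  rw [Module.End.mul_apply, rowOp_apply, LinearMap.sum_apply]
  simp_rw [LinearMap.smul_apply, rowOp_apply, smul_smul]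
  rw [← Finset.sum_smul]
  congr 1
  conv_lhs => rw [← b.sum_repr w]
  rw [map_sum, map_sum]
  refine Finset.sum_congr rfl fun j _ => ?_
  rw [map_smul, map_smul, smul_eq_mul, Module.Basis.coord_apply, Module.Basis.coord_apply,
    mul_comm]

theorem colOp_apply_basis (f : Module.End R V) (k : ι) :
    colOp b i0 (f (b k)) = ∑ i, b.coord i (f (b k)) • colOp b i0 (b i) := by
  conv_lhs => rw [← b.sum_repr (f (b k))]
  rw [map_sum]
  refine Finset.sum_congr rfl fun i _ => ?_
  rw [map_smul, Module.Basis.coord_apply]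

/-- the extension of an endomorphism of `P` to a "block-diagonal" endomorphism of `V` -/
noncomputable def extendEnd (g : Module.End R (summand b i0 ρ)) : Module.End R V :=
  ∑ k, ρ (colOp b i0 (b k)) *
    ((summand b i0 ρ).subtype ∘ₗ g ∘ₗ
      (idem b i0 ρ).codRestrict (summand b i0 ρ) fun v => ⟨v, rfl⟩) * ρ (rowOp b i0 k)

theorem extendEnd_comm (g : Module.End R (summand b i0 ρ)) (f : Module.End R V) :
    extendEnd b i0 ρ g * ρ f = ρ f * extendEnd b i0 ρ g := by
  set gbar : Module.End R V := (summand b i0 ρ).subtype ∘ₗ g ∘ₗ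
      (idem b i0 ρ).codRestrict (summand b i0 ρ) fun v => ⟨v, rfl⟩ with hgbar
  have h1 : extendEnd b i0 ρ g * ρ f =
      ∑ k, ∑ j, b.coord k (f (b j)) • (ρ (colOp b i0 (b k)) * gbar * ρ (rowOp b i0 j)) := by
    rw [extendEnd, Finset.sum_mul]
    refine Finset.sum_congr rfl fun k _ => ?_
    rw [mul_assoc, ← map_mul, rowOp_mul, map_sum, Finset.mul_sum]
    refine Finset.sum_congr rfl fun j _ => ?_
    rw [map_smul, mul_smul_comm]
  have h2 : ρ f * extendEnd b i0 ρ g =
      ∑ j, ∑ k, b.coord k (f (b j)) • (ρ (colOp b i0 (b k)) * gbar * ρ (rowOp b i0 j)) := by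
    rw [extendEnd, Finset.mul_sum]
    refine Finset.sum_congr rfl fun j _ => ?_
    rw [← mul_assoc, ← mul_assoc, ← map_mul, mul_colOp, colOp_apply_basis, map_sum, Finset.sum_mul,
      Finset.sum_mul]
    refine Finset.sum_congr rfl fun k _ => ?_
    rw [map_smul, smul_mul_assoc, smul_mul_assoc]
  rw [h1, h2, Finset.sum_comm]

theorem extendEnd_apply_of_mem (g : Module.End R (summand b i0 ρ)) (p : summand b i0 ρ) :
    extendEnd b i0 ρ g (p : V) = (g p : V) := by
  rw [extendEnd, LinearMap.sum_apply]
  have hterm : ∀ k, (ρ (colOp b i0 (b k)) *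
      ((summand b i0 ρ).subtype ∘ₗ g ∘ₗ
        (idem b i0 ρ).codRestrict (summand b i0 ρ) fun v => ⟨v, rfl⟩) * ρ (rowOp b i0 k)) (p : V)
      = if k = i0 then (g p : V) else 0 := by
    intro k
    rw [Module.End.mul_apply, Module.End.mul_apply]
    have hk : ρ (rowOp b i0 k) (p : V) = if i0 = k then (p : V) else 0 := by
      have := rowOp_colOp_apply b i0 ρ i0 k p.2
      rwa [show ρ (colOp b i0 (b i0)) (p : V) = (p : V) from idem_apply_of_mem b i0 ρ p.2] at this
    rw [hk]
    by_cases h : k = i0
    · have h' : i0 = k := h.symm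
      subst h'
      rw [if_pos rfl, if_pos rfl]
      simp only [LinearMap.comp_apply, Submodule.subtype_apply]
      have hp : (idem b i0 ρ).codRestrict (summand b i0 ρ) (fun v => ⟨v, rfl⟩) (p : V) = p :=
        Subtype.ext (idem_apply_of_mem b i0 ρ p.2)
      rw [hp]
      exact idem_apply_of_mem b i0 ρ (g p).2
    · rw [if_neg (Ne.symm h), if_neg h, map_zero, map_zero]
  simp_rw [hterm]
  rw [Finset.sum_ite_eq' Finset.univ i0]
  simp

/-- If `ρ` is surjective, every endomorphism of `P` is a homothety. -/
theorem end_summand_eq_smul (hρ : Function.Surjective ρ) (g : Module.End R (summand b i0 ρ)) :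
    ∃ r : R, ∀ p, g p = r • p := by
  have : Module.Free R V := Module.Free.of_basis b
  have hcentral : extendEnd b i0 ρ g ∈ Subalgebra.center R (Module.End R V) := by
    rw [Subalgebra.mem_center_iff]
    intro f
    obtain ⟨f', rfl⟩ := hρ f
    exact (extendEnd_comm b i0 ρ g f').symm
  rw [Algebra.IsCentral.center_eq_bot, Algebra.mem_bot] at hcentral
  obtain ⟨r, hr⟩ := hcentral
  refine ⟨r, fun p => Subtype.ext ?_⟩
  rw [← extendEnd_apply_of_mem, ← hr, Submodule.coe_smul]
  rfl

/-- If `ρ` is bijective, `P` is an invertible module. -/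
theorem summand_invertible (hρ : Function.Bijective ρ) : Module.Invertible R (summand b i0 ρ) := by
  have hfin := summand_finite b i0 ρ
  have hproj := summand_projective b i0 ρ
  have hinj : Function.Injective (Algebra.linearMap R (Module.End R (summand b i0 ρ))) := by
    rw [injective_iff_map_eq_zero]
    intro r hr
    have h0 : ∀ p : summand b i0 ρ, r • p = 0 := by
      intro p
      have := LinearMap.congr_fun hr p
      simpa [Algebra.algebraMap_eq_smul_one] using this
    have h1 : ρ (r • colOp b i0 (b i0)) = 0 := by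
      ext v
      rw [map_smul, LinearMap.smul_apply, LinearMap.zero_apply]
      have := h0 ⟨idem b i0 ρ v, v, rfl⟩
      exact congrArg Subtype.val this
    have h2 : r • colOp b i0 (b i0) = 0 := by
      apply hρ.1
      rw [h1, map_zero]
    have h3 := LinearMap.congr_fun h2 (b i0)
    rw [LinearMap.smul_apply, colOp_apply, coord_basis, if_pos rfl, one_smul,
      LinearMap.zero_apply] at h3
    have h4 := congrArg (b.coord i0) h3
    rwa [map_smul, coord_basis, if_pos rfl, smul_eq_mul, mul_one, map_zero] at h4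
  have hsurj : Function.Surjective (Algebra.linearMap R (Module.End R (summand b i0 ρ))) := by
    intro g
    obtain ⟨r, hr⟩ := end_summand_eq_smul b i0 ρ hρ.2 g
    refine ⟨r, ?_⟩
    ext p
    simp [Algebra.algebraMap_eq_smul_one, hr p]
  let e2 : R ≃ₗ[R] Module.End R (summand b i0 ρ) := LinearEquiv.ofBijective _ ⟨hinj, hsurj⟩
  exact Module.Invertible.right
    ((dualTensorHomEquiv R (summand b i0 ρ) (summand b i0 ρ)).trans e2.symm)

end Groth.Agent.Lib.Helper85.MatrixUnits
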